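import Cfsg.Agent.H839.SeventeenMain_m3
import Mathlib.GroupTheory.Perm.Cycle.Type
import Mathlib.GroupTheory.Sylow
import Mathlib.Data.ZMod.Basic
import Mathlib.Tactic
import Cfsg.Agent.Lib.PermNetFast
import Mathlib
import Cfsg.Agent.Lib.Cores
import Cfsg.Agent.Lib.ElemAbGL
import Cfsg.Agent.FastGrp
import Cfsg.Agent.Prune
set_option linter.all false

section
prune_inst 0x7ff2fefb8df9bddfffff7e7ffefddffdf9fdffffffdffbfbffede7ffafdf6b67bfe5fbafffef5afd9ef6e2b630f87b13fffffeffef6bfc7ffffd5ff45ffbff9fedffbd8d51dfb8be1ffe6ffffbf97fee7f3fffffffffffffffffffffffffffffffffffffffff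

-- part: H838/ThreeTr
section
prune_inst 0xd010472064220000000000102200206020000002004000000180050209090401004000000a10261081c400b0680c400000100109402000000a000200400401200002000000100c00110000000000000000000000000000000000000000000000000000000
set_option linter.all false
open scoped Cfsg.Agent.FastGrp

-- part: H838/ThreePar
section
/-!
# Elements of order 3 acting on a graph: parity and counting (helper838)
-/

set_option autoImplicit false

namespace Cfsg.Agent.H838.Three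

open Equiv

/-- **parity**: if `σ` has order 3 and preserves the symmetric relation `R` on a set of odd cardinality in which the
number of common `R`-neighbours of any two points not in relation is odd, then some point is in relation with its
image. -/
theorem parity {X : Finset ℕ} {R : ℕ → ℕ → Prop} (σ : Perm ℕ) (h3 : σ ^ 3 = 1) (hX : ∀ p ∈ X, σ p ∈ X)
    (hs : ∀ p ∈ X, ∀ q ∈ X, R p q → R q p) (hR : ∀ p ∈ X, ∀ q ∈ X, R p q → R (σ p) (σ q))
    (hodd : Odd X.card)
    (hcn : ∀ p ∈ X, ∀ q ∈ X, ¬ R p q → ∀ S : Finset ℕ, (∀ e, e ∈ S ↔ e ∈ X ∧ R p e ∧ R q e) → Odd S.card) :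
    ∃ d ∈ X, R d (σ d) := by
  classical
  by_contra hno
  push Not at hno
  have h3' : ∀ p, σ (σ (σ p)) = p := by
    intro p
    have := congrArg (fun τ : Perm ℕ => τ p) h3
    simpa only [pow_succ, _root_.pow_zero, _root_.one_mul, _root_.Equiv.Perm.coe_mul, _root_.Function.comp_apply, _root_.Equiv.Perm.coe_one, _root_.id_eq] using this
  have hinv : ∀ p, σ⁻¹ p = σ (σ p) := by
    intro p
    rw [Perm.inv_eq_iff_eq, h3']
  set S : Finset (ℕ × ℕ) := (X ×ˢ X).filter fun u => R u.1 u.2 ∧ R (σ u.1) u.2 with hS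
  have hcard : S.card = ∑ d ∈ X, (X.filter fun e => R d e ∧ R (σ d) e).card := by
    rw [hS, Finset.card_filter, Finset.sum_product]
    apply Finset.sum_congr rfl
    intro d _
    rw [Finset.card_filter]
  have h1 : Odd S.card := by
    rw [hcard, Finset.odd_sum_iff_odd_card_odd]
    have : (X.filter fun d => Odd (X.filter fun e => R d e ∧ R (σ d) e).card) = X := by
      apply Finset.filter_true_of_mem
      intro d hd
      apply hcn d hd (σ d) (hX d hd) (hno d hd)
      intro e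
      simp
    rwa [this]
  have h2 : (∑ _u ∈ S, (1 : ZMod 2)) = 0 := by
    refine Finset.sum_involution (fun u _ => (σ u.2, σ (σ u.1))) ?_ ?_ ?_ ?_
    · intro u hu
      decide
    · intro u hu _ h
      simp only [hS, Finset.mem_filter, Finset.mem_product] at hu
      obtain ⟨⟨hu1, hu2⟩, hu3, -⟩ := hu
      have h4 : σ u.2 = u.1 := congrArg Prod.fst h
      rw [← h4] at hu3
      exact hno u.2 hu2 (hs _ (hX _ hu2) _ hu2 hu3)
    · intro u hu
      simp only [hS, Finset.mem_filter, Finset.mem_product] at hu ⊢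
      obtain ⟨⟨hu1, hu2⟩, hu3, hu4⟩ := hu
      refine ⟨⟨hX _ hu2, hX _ (hX _ hu1)⟩, ?_, ?_⟩
      · have h5 := hR _ (hX _ hu1) _ hu2 hu4
        exact hs _ (hX _ (hX _ hu1)) _ (hX _ hu2) h5
      · have h5 := hR _ (hX _ hu1) _ (hX _ hu2) (hR _ hu1 _ hu2 hu3)
        exact hs _ (hX _ (hX _ hu1)) _ (hX _ (hX _ hu2)) h5
    · intro u hu
      refine Prod.ext ?_ ?_
      · change σ (σ (σ u.1)) = u.1
        exact h3' _
      · change σ (σ (σ u.2)) = u.2
        exact h3' _
  rw [Finset.sum_const, nsmul_eq_mul, mul_one] at h2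
  have h6 : Even S.card := by
    rw [ZMod.natCast_eq_zero_iff] at h2
    exact even_iff_two_dvd.2 h2
  exact (Nat.not_even_iff_odd.2 h1) h6

/-- an element of order 3 has a fixed point in a set of cardinality prime to 3 -/
theorem exists_fix {X : Finset ℕ} (σ : Perm ℕ) (h3 : σ ^ 3 = 1) (hX : ∀ p ∈ X, σ p ∈ X) (hc : ¬ 3 ∣ X.card) :
    ∃ d ∈ X, σ d = d := by
  classical
  have h3' : ∀ p, σ (σ (σ p)) = p := by
    intro p
    have := congrArg (fun τ : Perm ℕ => τ p) h3
    simpa only [pow_succ, _root_.pow_zero, _root_.one_mul, _root_.Equiv.Perm.coe_mul, _root_.Function.comp_apply, _root_.Equiv.Perm.coe_one, _root_.id_eq] using this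
  have hiff : ∀ p, σ p ∈ X ↔ p ∈ X := by
    intro p
    constructor
    · intro h
      have := hX _ (hX _ h)
      rwa [h3'] at this
    · exact hX p
  let τ : Perm {p // p ∈ X} := σ.subtypePerm hiff
  have hτ : τ ^ 3 ^ 1 = 1 := by
    rw [pow_one]
    apply Equiv.ext
    intro p
    apply Subtype.ext
    change σ (σ (σ p.1)) = p.1
    exact h3' _
  have : Fact (Nat.Prime 3) := ⟨by norm_num⟩
  obtain ⟨d, hd⟩ := Equiv.Perm.exists_fixed_point_of_prime (p := 3) (n := 1) (by
    rw [Fintype.card_coe]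
    exact hc) hτ
  refine ⟨d.1, d.2, ?_⟩
  have := congrArg Subtype.val hd
  simpa [τ] using this

end Cfsg.Agent.H838.Three
end

-- part: H838/ThreeTr
section
/-!
# `Fi23`: transitivity on small configurations of transpositions; every element of order 3 normalizes a commuting
triple of transpositions (helper838)
-/

set_option autoImplicit false
set_option linter.constructorNameAsVariable false
set_option maxRecDepth 100000

namespace Cfsg.Agent.H838.Three

open Subgroup Cfsg Cfsg.Agent.Lib.PermNet Cfsg.Agent.Lib.PermNetOrbit Cfsg.Agent.Fischer.Fi23Hom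
  Cfsg.Agent.LThreeFi23 Cfsg.Agent.H838.Fi23
open Cfsg.Spor (Fi23)

/-- the pointwise stabilizer of a list of points -/
def stab (fx : List ℕ) : Subgroup Fi23 where
  carrier := {g | ∀ p ∈ fx, rho g p = p}
  one_mem' := fun p _ => by rw [map_one]; rfl
  mul_mem' := fun {g h} hg hh p hp => by rw [map_mul, Equiv.Perm.mul_apply, hh p hp, hg p hp]
  inv_mem' := fun {g} hg p hp => by rw [map_inv, Equiv.Perm.inv_eq_iff_eq, hg p hp]

theorem mem_stab {fx : List ℕ} {g : Fi23} : g ∈ stab fx ↔ ∀ p ∈ fx, rho g p = p := Iff.rfl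

theorem orb_spec {fx : List ℕ} {ws : List (List Lt)} (h : ∀ u ∈ ws, elw u ∈ stab fx) {b r q : ℕ}
    (hq : (orbM ws b r).testBit q = true) : ∃ g ∈ stab fx, rho g b = q := by
  unfold orbM at hq
  obtain ⟨k, ⟨g, hg, rfl⟩, hk⟩ := sat_point_spec (K := (stab fx).map rho) (ntws_ok ws)
    (fun u hu => by
      obtain ⟨v, hv, rfl⟩ := mem_ntws hu
      exact ⟨elw v, h v hv, rho_elw v⟩) r hq
  exact ⟨g, hg, hk⟩

/-- the words fix the points -/
noncomputable def fixChk (ws : List (List Lt)) (fx : List ℕ) : Bool :=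
  ws.all fun u => fx.all fun p => Nat.beq (ptw u p) p

theorem fixChk_spec {ws : List (List Lt)} {fx : List ℕ} (h : fixChk ws fx = true) : ∀ u ∈ ws, elw u ∈ stab fx := by
  unfold fixChk at h
  rw [List.all_eq_true] at h
  intro u hu p hp
  have h1 := h u hu
  rw [List.all_eq_true] at h1
  rw [← ptw_eq]
  exact Nat.eq_of_beq_eq_true (h1 p hp)

/-- letters as words -/
def lp (cs : List (Lt × Bool)) : List (List Lt × Bool) := cs.map fun c => ([c.1], c.2)

theorem testBit_lp (cs : List (Lt × Bool)) (q : ℕ) :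
    (pattern (lp cs)).testBit q = true ↔ q < 31671 ∧ ∀ c ∈ cs, (¬ Com (pt c.1) q ↔ c.2 = true) := by
  rw [testBit_pattern]
  apply and_congr_right
  intro _
  unfold Pat lp
  simp only [List.mem_map, forall_exists_index, and_imp, forall_apply_eq_imp_iff₂, elw_one, com_pt_iff]

/-- the orbit of `b` is the set of the points of the pattern `cs` not in the list `ex` -/
noncomputable def orbChk (ws : List (List Lt)) (b r : ℕ) (cs : List (Lt × Bool)) (ex : List ℕ) : Bool :=
  Nat.beq (orbM ws b r) (Nat.xor (pattern (lp cs)) (mor ex))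

theorem trans_of {ws : List (List Lt)} {fx : List ℕ} {b r : ℕ} {cs : List (Lt × Bool)} {ex : List ℕ}
    (h1 : fixChk ws fx = true) (h2 : orbChk ws b r cs ex = true) {q : ℕ} (hq : q < 31671)
    (hcs : ∀ c ∈ cs, (¬ Com (pt c.1) q ↔ c.2 = true)) (hex : q ∉ ex) : ∃ g ∈ stab fx, rho g b = q := by
  apply orb_spec (fixChk_spec h1) (r := r)
  have h3 : orbM ws b r = pattern (lp cs) ^^^ mor ex := Nat.eq_of_beq_eq_true h2
  rw [h3, Nat.testBit_xor, (testBit_lp cs q).2 ⟨hq, hcs⟩]
  have h4 : (mor ex).testBit q = false := by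
    rw [← Bool.not_eq_true, testBit_mor]; exact hex
  rw [h4]; rfl

/-- one step: move the next point to its place -/
theorem step {ws : List (List Lt)} {fx : List ℕ} {b r : ℕ} {cs : List (Lt × Bool)} {ex : List ℕ}
    (h1 : fixChk ws fx = true) (h2 : orbChk ws b r cs ex = true) {g : Fi23} {q : ℕ} (hq : q < 31671)
    (hcs : ∀ c ∈ cs, (¬ Com (pt c.1) (rho g q) ↔ c.2 = true)) (hex : rho g q ∉ ex) :
    ∃ k : Fi23, rho k q = b ∧ ∀ p p', p' ∈ fx → rho g p = p' → rho k p = p' := by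
  obtain ⟨m, hm, hm'⟩ := trans_of h1 h2 (act_lt g hq) hcs hex
  refine ⟨m⁻¹ * g, ?_, ?_⟩
  · rw [map_mul, Equiv.Perm.mul_apply, map_inv, Equiv.Perm.inv_eq_iff_eq, hm']
  · intro p p' hp' h
    rw [map_mul, Equiv.Perm.mul_apply, h, map_inv, Equiv.Perm.inv_eq_iff_eq, hm _ hp']

/-! ### Kernel checks -/

/-- a transposition commuting with `z`, `j`, `a` -/
def w2 : List Lt := [.b, .c, .d, .h, .e, .d, .c, .b, .a, .b, .c, .d, .e, .h, .d, .c, .b]
/-- a transposition commuting with `z`, `j`, `a`, `i` -/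
def w3 : List Lt := [.h, .i, .b, .c, .d, .h, .e, .d, .c, .b, .a, .b, .c, .d, .e, .h, .d, .c, .b, .i, .h]

def wZ1 : List (List Lt) := [[.a], [.b], [.c], [.d], [.e], [.f], [.g], [.h], [.i]]
def wZ2 : List (List Lt) := [[.c], [.d], [.e], [.f], [.g], [.h], [.i], w2]
def wJ1 : List (List Lt) := [[.a], [.b], [.c], [.d], [.e], [.f], [.h], [.i]]
def wJ2 : List (List Lt) := [[.c], [.d], [.e], [.f], [.h], [.i], w2]
def wJ4 : List (List Lt) := [[.c], [.d], [.e], [.f], w3]

theorem f_Z1 : fixChk wZ1 [0] = true := by decide +kernel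
theorem f_Z2 : fixChk wZ2 [0, 11589] = true := by decide +kernel
theorem f_J1 : fixChk wJ1 [0, 8006] = true := by decide +kernel
theorem f_J2 : fixChk wJ2 [0, 8006, 11589] = true := by decide +kernel
theorem f_J4 : fixChk wJ4 [0, 8006, 11589, 8007] = true := by decide +kernel

theorem o_Z1 : orbChk wZ1 11589 6 [(.z, false)] [0] = true := by decide +kernel
theorem o_Z2 : orbChk wZ2 8000 4 [(.z, false), (.a, false)] [0, 11589] = true := by decide +kernel
theorem o_J1 : orbChk wJ1 11589 6 [(.z, false), (.j, false)] [] = true := by decide +kernel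
theorem o_J2 : orbChk wJ2 8004 6 [(.z, false), (.j, false), (.a, true)] [] = true := by decide +kernel
theorem o_J3 : orbChk wJ2 8007 4 [(.z, false), (.j, false), (.a, false)] [11589] = true := by decide +kernel
theorem o_J4 : orbChk wJ4 8000 3 [(.z, false), (.j, false), (.a, false), (.i, false)] [11589, 8007] = true := by
  decide +kernel

/-- the letters as a pattern of commuting points -/
def cl (xs : List Lt) : List (Lt × Bool) := xs.map fun x => (x, false)

theorem c_z : Nat.beq (Lib.PermNetPat.pc 15 (pattern (lp (cl [.z])))) 3511 = true := by decide +kernel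
theorem c_za : Nat.beq (Lib.PermNetPat.pc 15 (pattern (lp (cl [.z, .a])))) 695 = true := by decide +kernel
theorem c_zj : Nat.beq (Lib.PermNetPat.pc 15 (pattern (lp (cl [.z, .j])))) 351 = true := by decide +kernel
theorem c_zjab : Nat.beq (Lib.PermNetPat.pc 15 (pattern (lp (cl [.z, .j, .a, .b])))) 45 = true := by decide +kernel
theorem c_zjai : Nat.beq (Lib.PermNetPat.pc 15 (pattern (lp (cl [.z, .j, .a, .i])))) 47 = true := by decide +kernel

/-! ### Sets of points commuting with the points of a list -/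

open Classical in
/-- the points commuting with all the points of the list -/
noncomputable def CS (L : List ℕ) : Finset ℕ := (Finset.range 31671).filter fun q => ∀ p ∈ L, Com p q

theorem mem_CS {L : List ℕ} {q : ℕ} : q ∈ CS L ↔ q < 31671 ∧ ∀ p ∈ L, Com p q := by
  simp only [CS, Finset.mem_filter, Finset.mem_range]

theorem card_CS_pt {xs : List Lt} {n : ℕ} (h : Nat.beq (Lib.PermNetPat.pc 15 (pattern (lp (cl xs)))) n = true) :
    (CS (xs.map pt)).card = n := by
  rw [← Nat.eq_of_beq_eq_true h, ← Lib.PermNetPat.card_filter_testBit]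
  (with_reducible congr 1)
  ext q
  rw [mem_CS, Finset.mem_filter, Finset.mem_range, testBit_lp]
  unfold cl
  simp only [List.mem_map, forall_exists_index, and_imp, forall_apply_eq_imp_iff₂, Bool.false_eq_true, iff_false,
    not_not]
  constructor
  · rintro ⟨h1, h2⟩
    exact ⟨by omega, h1, h2⟩
  · rintro ⟨-, h1, h2⟩
    exact ⟨h1, h2⟩

theorem card_CS_act (g : Fi23) {L : List ℕ} (hL : ∀ p ∈ L, p < 31671) :
    (CS (L.map (rho g))).card = (CS L).card := by
  symm
  apply Finset.card_bij (fun q _ => rho g q)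
  · intro q hq
    rw [mem_CS] at hq ⊢
    refine ⟨act_lt g hq.1, ?_⟩
    intro p hp
    obtain ⟨p', hp', rfl⟩ := List.mem_map.1 hp
    rw [com_act g (hL p' hp')]
    exact hq.2 p' hp'
  · intro q _ q' _ h
    exact (rho g).injective h
  · intro q hq
    rw [mem_CS] at hq
    have e : rho g (rho g⁻¹ q) = q := by rw [← Equiv.Perm.mul_apply, ← map_mul, mul_inv_cancel, map_one]; rfl
    refine ⟨rho g⁻¹ q, ?_, e⟩
    rw [mem_CS]
    refine ⟨act_lt _ hq.1, ?_⟩
    intro p hp
    rw [← com_act g (hL p hp), e]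
    exact hq.2 _ (List.mem_map.2 ⟨p, hp, rfl⟩)

/-! ### Transitivity -/

theorem com_g {g : Fi23} {p p' q : ℕ} (hp : p < 31671) (h : rho g p = p') : Com p' (rho g q) ↔ Com p q := by
  rw [← h, com_act g hp]

theorem ne_g {g : Fi23} {p p' q : ℕ} (h : rho g p = p') (hne : q ≠ p) : rho g q ≠ p' := by
  rw [← h]
  exact fun e => hne ((rho g).injective e)

theorem conjJ0 {p q : ℕ} (hp : p < 31671) (hq : q < 31671) (h : ¬ Com p q) :
    ∃ g : Fi23, rho g p = 0 ∧ rho g q = 8006 := pair_trans hp hq (by norm_num) (by norm_num) h ncom_zj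

theorem conjJ1 {p q r : ℕ} (hp : p < 31671) (hq : q < 31671) (hr : r < 31671) (h : ¬ Com p q) (h1 : Com p r)
    (h2 : Com q r) : ∃ g : Fi23, rho g p = 0 ∧ rho g q = 8006 ∧ rho g r = 11589 := by
  obtain ⟨g, e1, e2⟩ := conjJ0 hp hq h
  obtain ⟨k, hk, hk'⟩ := step f_J1 o_J1 (g := g) hr (by
    intro c hc
    fin_cases hc
    · change ¬ Com 0 _ ↔ _
      rw [com_g hp e1]; simp [h1]
    · change ¬ Com 8006 _ ↔ _
      rw [com_g hq e2]; simp [h2]) (by simp)
  exact ⟨k, hk' _ _ (by simp) e1, hk' _ _ (by simp) e2, hk⟩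

theorem conjJ2 {p q r s : ℕ} (hp : p < 31671) (hq : q < 31671) (hr : r < 31671) (hs : s < 31671) (h : ¬ Com p q)
    (h1 : Com p r) (h2 : Com q r) (h3 : Com p s) (h4 : Com q s) (h5 : ¬ Com r s) :
    ∃ g : Fi23, rho g p = 0 ∧ rho g q = 8006 ∧ rho g r = 11589 ∧ rho g s = 8004 := by
  obtain ⟨g, e1, e2, e3⟩ := conjJ1 hp hq hr h h1 h2
  obtain ⟨k, hk, hk'⟩ := step f_J2 o_J2 (g := g) hs (by
    intro c hc
    fin_cases hc
    · change ¬ Com 0 _ ↔ _
      rw [com_g hp e1]; simp [h3]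
    · change ¬ Com 8006 _ ↔ _
      rw [com_g hq e2]; simp [h4]
    · change ¬ Com 11589 _ ↔ _
      rw [com_g hr e3]; simp [h5]) (by simp)
  exact ⟨k, hk' _ _ (by simp) e1, hk' _ _ (by simp) e2, hk' _ _ (by simp) e3, hk⟩

theorem conjJ3 {p q r s : ℕ} (hp : p < 31671) (hq : q < 31671) (hr : r < 31671) (hs : s < 31671) (h : ¬ Com p q)
    (h1 : Com p r) (h2 : Com q r) (h3 : Com p s) (h4 : Com q s) (h5 : Com r s) (hne : s ≠ r) :
    ∃ g : Fi23, rho g p = 0 ∧ rho g q = 8006 ∧ rho g r = 11589 ∧ rho g s = 8007 := by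
  obtain ⟨g, e1, e2, e3⟩ := conjJ1 hp hq hr h h1 h2
  obtain ⟨k, hk, hk'⟩ := step f_J2 o_J3 (g := g) hs (by
    intro c hc
    fin_cases hc
    · change ¬ Com 0 _ ↔ _
      rw [com_g hp e1]; simp [h3]
    · change ¬ Com 8006 _ ↔ _
      rw [com_g hq e2]; simp [h4]
    · change ¬ Com 11589 _ ↔ _
      rw [com_g hr e3]; simp [h5]) (by
    rw [List.mem_singleton]
    exact ne_g e3 hne)
  exact ⟨k, hk' _ _ (by simp) e1, hk' _ _ (by simp) e2, hk' _ _ (by simp) e3, hk⟩

theorem conjJ4 {p q r s t : ℕ} (hp : p < 31671) (hq : q < 31671) (hr : r < 31671) (hs : s < 31671) (ht : t < 31671)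
    (h : ¬ Com p q) (h1 : Com p r) (h2 : Com q r) (h3 : Com p s) (h4 : Com q s) (h5 : Com r s) (hne : s ≠ r)
    (h6 : Com p t) (h7 : Com q t) (h8 : Com r t) (h9 : Com s t) (hne1 : t ≠ r) (hne2 : t ≠ s) :
    ∃ g : Fi23, rho g p = 0 ∧ rho g q = 8006 ∧ rho g r = 11589 ∧ rho g s = 8007 ∧ rho g t = 8000 := by
  obtain ⟨g, e1, e2, e3, e4⟩ := conjJ3 hp hq hr hs h h1 h2 h3 h4 h5 hne
  obtain ⟨k, hk, hk'⟩ := step f_J4 o_J4 (g := g) ht (by
    intro c hc
    fin_cases hc
    · change ¬ Com 0 _ ↔ _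
      rw [com_g hp e1]; simp [h6]
    · change ¬ Com 8006 _ ↔ _
      rw [com_g hq e2]; simp [h7]
    · change ¬ Com 11589 _ ↔ _
      rw [com_g hr e3]; simp [h8]
    · change ¬ Com 8007 _ ↔ _
      rw [com_g hs e4]; simp [h9]) (by
    rw [List.mem_cons, List.mem_singleton, not_or]
    exact ⟨ne_g e3 hne1, ne_g e4 hne2⟩)
  exact ⟨k, hk' _ _ (by simp) e1, hk' _ _ (by simp) e2, hk' _ _ (by simp) e3, hk' _ _ (by simp) e4, hk⟩

theorem conjZ0 {p : ℕ} (hp : p < 31671) : ∃ g : Fi23, rho g p = 0 := by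
  obtain ⟨g, hg⟩ := exists_rep hp
  exact ⟨g⁻¹, by rw [map_inv, Equiv.Perm.inv_eq_iff_eq, hg]⟩

theorem conjZ1 {p q : ℕ} (hp : p < 31671) (hq : q < 31671) (h : Com p q) (hne : q ≠ p) :
    ∃ g : Fi23, rho g p = 0 ∧ rho g q = 11589 := by
  obtain ⟨g, e1⟩ := conjZ0 hp
  obtain ⟨k, hk, hk'⟩ := step f_Z1 o_Z1 (g := g) hq (by
    intro c hc
    fin_cases hc
    · change ¬ Com 0 _ ↔ _
      rw [com_g hp e1]; simp [h]) (by
    rw [List.mem_singleton]
    exact ne_g e1 hne)
  exact ⟨k, hk' _ _ (by simp) e1, hk⟩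

theorem conjZ2 {p q r : ℕ} (hp : p < 31671) (hq : q < 31671) (hr : r < 31671) (h : Com p q) (hne : q ≠ p)
    (h1 : Com p r) (h2 : Com q r) (hne1 : r ≠ p) (hne2 : r ≠ q) :
    ∃ g : Fi23, rho g p = 0 ∧ rho g q = 11589 ∧ rho g r = 8000 := by
  obtain ⟨g, e1, e2⟩ := conjZ1 hp hq h hne
  obtain ⟨k, hk, hk'⟩ := step f_Z2 o_Z2 (g := g) hr (by
    intro c hc
    fin_cases hc
    · change ¬ Com 0 _ ↔ _
      rw [com_g hp e1]; simp [h1]
    · change ¬ Com 11589 _ ↔ _
      rw [com_g hq e2]; simp [h2]) (by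
    rw [List.mem_cons, List.mem_singleton, not_or]
    exact ⟨ne_g e1 hne1, ne_g e2 hne2⟩)
  exact ⟨k, hk' _ _ (by simp) e1, hk' _ _ (by simp) e2, hk⟩

/-! ### Numbers of common neighbours -/

theorem card_CS_of {L : List ℕ} {xs : List Lt} {n : ℕ} {g : Fi23} (hL : ∀ p ∈ L, p < 31671)
    (hg : L.map (rho g) = xs.map pt)
    (h : Nat.beq (Lib.PermNetPat.pc 15 (pattern (lp (cl xs)))) n = true) : (CS L).card = n := by
  rw [← card_CS_act g hL, hg, card_CS_pt h]

theorem card1 {p : ℕ} (hp : p < 31671) : (CS [p]).card = 3511 := by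
  obtain ⟨g, e1⟩ := conjZ0 hp
  exact card_CS_of (by simpa using hp) (xs := [.z]) (g := g) (by simp [e1, pt]) c_z

theorem card_zj {p q : ℕ} (hp : p < 31671) (hq : q < 31671) (h : ¬ Com p q) : (CS [p, q]).card = 351 := by
  obtain ⟨g, e1, e2⟩ := conjJ0 hp hq h
  exact card_CS_of (by simp [hp, hq]) (xs := [.z, .j]) (g := g) (by simp [e1, e2, pt]) c_zj

theorem card_za {p q : ℕ} (hp : p < 31671) (hq : q < 31671) (h : Com p q) (hne : q ≠ p) :
    (CS [p, q]).card = 695 := by
  obtain ⟨g, e1, e2⟩ := conjZ1 hp hq h hne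
  exact card_CS_of (by simp [hp, hq]) (xs := [.z, .a]) (g := g) (by simp [e1, e2, pt]) c_za

theorem card_zjab {p q r s : ℕ} (hp : p < 31671) (hq : q < 31671) (hr : r < 31671) (hs : s < 31671) (h : ¬ Com p q)
    (h1 : Com p r) (h2 : Com q r) (h3 : Com p s) (h4 : Com q s) (h5 : ¬ Com r s) : (CS [p, q, r, s]).card = 45 := by
  obtain ⟨g, e1, e2, e3, e4⟩ := conjJ2 hp hq hr hs h h1 h2 h3 h4 h5
  exact card_CS_of (by simp [hp, hq, hr, hs]) (xs := [.z, .j, .a, .b]) (g := g) (by simp [e1, e2, e3, e4, pt]) c_zjab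

theorem card_zjai {p q r s : ℕ} (hp : p < 31671) (hq : q < 31671) (hr : r < 31671) (hs : s < 31671) (h : ¬ Com p q)
    (h1 : Com p r) (h2 : Com q r) (h3 : Com p s) (h4 : Com q s) (h5 : Com r s) (hne : s ≠ r) :
    (CS [p, q, r, s]).card = 47 := by
  obtain ⟨g, e1, e2, e3, e4⟩ := conjJ3 hp hq hr hs h h1 h2 h3 h4 h5 hne
  exact card_CS_of (by simp [hp, hq, hr, hs]) (xs := [.z, .j, .a, .i]) (g := g) (by simp [e1, e2, e3, e4, pt]) c_zjai

/-! ### Elements of order 3 -/

/-- `x` permutes the commuting triple cyclically or fixes its members -/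
def Trip (x : Fi23) (p q r : ℕ) : Prop :=
  p < 31671 ∧ q < 31671 ∧ r < 31671 ∧ q ≠ p ∧ r ≠ p ∧ r ≠ q ∧ Com p q ∧ Com p r ∧ Com q r ∧
    ((rho x p = q ∧ rho x q = r ∧ rho x r = p) ∨ (rho x p = p ∧ rho x q = q ∧ rho x r = r))

theorem three_app {x : Fi23} (hx : x ^ 3 = 1) (p : ℕ) : rho x (rho x (rho x p)) = p := by
  have h : rho (x ^ 3) p = p := by rw [hx, map_one]; rfl
  rwa [pow_succ, pow_succ, pow_one, map_mul, map_mul, Equiv.Perm.mul_apply, Equiv.Perm.mul_apply] at h

theorem trip_of_comm {x : Fi23} (hx : x ^ 3 = 1) {p : ℕ} (hp : p < 31671) (h : Com p (rho x p)) (hne : rho x p ≠ p) :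
    ∃ q r, Trip x p q r := by
  have h3 := three_app hx p
  have hq := act_lt x hp
  have hr := act_lt x hq
  have h1 : Com (rho x p) (rho x (rho x p)) := (com_act x hp).2 h
  have h2 : Com (rho x (rho x p)) p := by
    have := (com_act x hq).2 h1
    rwa [h3] at this
  have hne' : rho x (rho x p) ≠ rho x p := fun e => hne ((rho x).injective e)
  refine ⟨rho x p, rho x (rho x p), hp, hq, hr, hne, ?_, hne', h, (com_comm hr hp).1 h2, h1, Or.inl ⟨rfl, rfl, h3⟩⟩
  intro e
  rw [e] at h3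
  exact hne h3

/-- **every element of order 3 normalizes a commuting triple of transpositions** -/
theorem exists_trip {x : Fi23} (hx : x ^ 3 = 1) : ∃ p q r, Trip x p q r := by
  have hx3 : (rho x) ^ 3 = 1 := by rw [← map_pow, hx, map_one]
  have sym : ∀ {p q : ℕ}, p < 31671 → q < 31671 → Com p q → Com q p := fun hp hq h => (com_comm hp hq).1 h
  -- level 0
  obtain ⟨d, hd, h1⟩ := parity (X := Finset.range 31671) (R := Com) (rho x) hx3
    (fun p hp => Finset.mem_range.2 (act_lt x (Finset.mem_range.1 hp)))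
    (fun p hp q hq h => sym (Finset.mem_range.1 hp) (Finset.mem_range.1 hq) h)
    (fun p hp q _ h => (com_act x (Finset.mem_range.1 hp)).2 h)
    (by rw [Finset.card_range]; decide)
    (fun p hp q hq h S hS => by
      have e : S = CS [p, q] := by
        ext e
        rw [hS, mem_CS, Finset.mem_range]
        simp
      rw [e, card_zj (Finset.mem_range.1 hp) (Finset.mem_range.1 hq) h]
      decide)
  rw [Finset.mem_range] at hd
  by_cases h1' : rho x d = d
  swap
  · obtain ⟨q, r, h⟩ := trip_of_comm hx hd h1 h1'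
    exact ⟨_, _, _, h⟩
  clear h1
  -- a point not commuting with `d`
  obtain ⟨e, he, h2⟩ := exists_fix (X := Finset.range 31671 \ CS [d]) (rho x) hx3 (by
    intro p hp
    rw [Finset.mem_sdiff, Finset.mem_range, mem_CS] at hp ⊢
    refine ⟨act_lt x hp.1, fun h => hp.2 ⟨hp.1, ?_⟩⟩
    have h3 := h.2
    simp only [List.mem_singleton, forall_eq] at h3 ⊢
    rwa [com_fix x hd h1'] at h3) (by
    rw [Finset.card_sdiff_of_subset (by
      intro p hp
      exact Finset.mem_range.2 (mem_CS.1 hp).1), card1 hd, Finset.card_range]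
    decide)
  rw [Finset.mem_sdiff, Finset.mem_range, mem_CS] at he
  obtain ⟨he, he'⟩ := he
  have hde : ¬ Com d e := fun h => he' ⟨he, by simpa using h⟩
  clear he'
  -- level 1
  obtain ⟨a, ha, h3⟩ := parity (X := CS [d, e]) (R := Com) (rho x) hx3
    (fun p hp => by
      rw [mem_CS] at hp ⊢
      refine ⟨act_lt x hp.1, ?_⟩
      have h := hp.2
      simp only [List.mem_cons, List.not_mem_nil, or_false, forall_eq_or_imp, forall_eq] at h ⊢
      rw [com_fix x hd h1', com_fix x he h2]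
      exact h)
    (fun p hp q hq h => sym (mem_CS.1 hp).1 (mem_CS.1 hq).1 h)
    (fun p hp q _ h => (com_act x (mem_CS.1 hp).1).2 h)
    (by rw [card_zj hd he hde]; decide)
    (fun p hp q hq h S hS => by
      have e' : S = CS [d, e, p, q] := by
        ext f
        rw [hS, mem_CS, mem_CS]
        simp only [_root_.List.mem_cons, _root_.List.not_mem_nil, _root_.or_false, _root_.forall_eq_or_imp, _root_.forall_eq]
        (clear * -; tauto)
      rw [mem_CS] at hp hq
      rw [e', card_zjab hd he hp.1 hq.1 hde (hp.2 d (by simp)) (hp.2 e (by simp)) (hq.2 d (by simp))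
        (hq.2 e (by simp)) h]
      decide)
  rw [mem_CS] at ha
  obtain ⟨ha, hda⟩ := ha
  by_cases h3' : rho x a = a
  swap
  · obtain ⟨q, r, h⟩ := trip_of_comm hx ha h3 h3'
    exact ⟨_, _, _, h⟩
  clear h3
  have hda' : Com d a := hda d (by simp)
  have hea : Com e a := hda e (by simp)
  have hne : a ≠ d := by
    rintro rfl
    exact hde (sym he ha hea)
  -- level 2
  obtain ⟨f, hf, h4⟩ := parity (X := ((CS [d, a]).erase d).erase a) (R := Com) (rho x) hx3
    (fun p hp => by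
      rw [Finset.mem_erase, Finset.mem_erase, mem_CS] at hp ⊢
      refine ⟨?_, ?_, act_lt x hp.2.2.1, ?_⟩
      · intro h; exact hp.1 ((rho x).injective (h.trans h3'.symm))
      · intro h; exact hp.2.1 ((rho x).injective (h.trans h1'.symm))
      have h := hp.2.2.2
      simp only [List.mem_cons, List.not_mem_nil, or_false, forall_eq_or_imp, forall_eq] at h ⊢
      rw [com_fix x hd h1', com_fix x ha h3']
      exact h)
    (fun p hp q hq h => by
      rw [Finset.mem_erase, Finset.mem_erase, mem_CS] at hp hq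
      exact sym hp.2.2.1 hq.2.2.1 h)
    (fun p hp q _ h => by
      rw [Finset.mem_erase, Finset.mem_erase, mem_CS] at hp
      exact (com_act x hp.2.2.1).2 h)
    (by
      rw [Finset.card_erase_of_mem, Finset.card_erase_of_mem, card_za hd ha hda' hne]
      · decide
      · rw [mem_CS]
        refine ⟨hd, ?_⟩
        simp only [List.mem_cons, List.not_mem_nil, or_false, forall_eq_or_imp, forall_eq]
        exact ⟨com_self hd, sym hd ha hda'⟩
      · rw [Finset.mem_erase, mem_CS]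
        refine ⟨hne, ha, ?_⟩
        simp only [List.mem_cons, List.not_mem_nil, or_false, forall_eq_or_imp, forall_eq]
        exact ⟨hda', com_self ha⟩)
    (fun p hp q hq h S hS => by
      rw [Finset.mem_erase, Finset.mem_erase, mem_CS] at hp hq
      obtain ⟨hpa, hpd, hp, hp'⟩ := hp
      obtain ⟨hqa, hqd, hq, hq'⟩ := hq
      simp only [List.mem_cons, List.not_mem_nil, or_false, forall_eq_or_imp, forall_eq] at hp' hq'
      have e' : S = ((CS [p, q, d, a]).erase d).erase a := by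
        ext f
        rw [hS, Finset.mem_erase, Finset.mem_erase, Finset.mem_erase, Finset.mem_erase, mem_CS, mem_CS]
        simp only [_root_.ne_eq, _root_.List.mem_cons, _root_.List.not_mem_nil, _root_.or_false, _root_.forall_eq_or_imp, _root_.forall_eq]
        (clear * -; itauto)
      rw [e', Finset.card_erase_of_mem, Finset.card_erase_of_mem, card_zjai hp hq hd ha h (sym hd hp hp'.1)
        (sym hd hq hq'.1) (sym ha hp hp'.2) (sym ha hq hq'.2) hda' hne]
      · decide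
      · rw [mem_CS]
        refine ⟨hd, ?_⟩
        simp only [List.mem_cons, List.not_mem_nil, or_false, forall_eq_or_imp, forall_eq]
        exact ⟨sym hd hp hp'.1, sym hd hq hq'.1, com_self hd, sym hd ha hda'⟩
      · rw [Finset.mem_erase, mem_CS]
        refine ⟨hne, ha, ?_⟩
        simp only [List.mem_cons, List.not_mem_nil, or_false, forall_eq_or_imp, forall_eq]
        exact ⟨sym ha hp hp'.2, sym ha hq hq'.2, hda', com_self ha⟩)
  rw [Finset.mem_erase, Finset.mem_erase, mem_CS] at hf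
  obtain ⟨hfa, hfd, hf, hf'⟩ := hf
  by_cases h4' : rho x f = f
  swap
  · obtain ⟨q, r, h⟩ := trip_of_comm hx hf h4 h4'
    exact ⟨_, _, _, h⟩
  exact ⟨d, a, f, hd, ha, hf, hne, hfd, hfa, hda', hf' d (by simp), hf' a (by simp), Or.inr ⟨h1', h3', h4'⟩⟩

end Cfsg.Agent.H838.Three
end

private theorem dce_0e09477b9e23 : _root_.True := by
  try have : _root_.True := by simp only [_root_.Cfsg.Agent.H838.Three.CS.eq_1]
  exact _root_.True.intro
end

-- part: H838/ThreeCl
section
prune_inst 0xc010062040000000000000100000204000000002000000010180050201088400000000000800041000008000000c000000100000401000000a008000000401200422020200400000010000400800000000000000000000000000000000000000000000000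
set_option linter.all false
open scoped Cfsg.Agent.FastGrp

-- part: H838/EqM
section
/-!
# `Fi23`: equality of words by four masks (helper838)
-/

set_option autoImplicit false
set_option linter.constructorNameAsVariable false
set_option maxRecDepth 100000

namespace Cfsg.Agent.H838.Fi23

open Subgroup Cfsg Cfsg.Agent.Lib.PermNet Cfsg.Agent.Fischer.Fi23Hom Cfsg.Agent.LThreeFi23
open Cfsg.Spor (Fi23)

theorem e_c8 : pchk [([.z], false), ([.j], false), ([.g], false), ([.f], false), ([.a], false), ([.b], true),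
    ([.d], true), ([.h], false)] [8003] = true := by decide +kernel
theorem e_i8 : pchk [([.z], false), ([.j], false), ([.g], false), ([.f], false), ([.a], false), ([.b], false),
    ([.d], false), ([.h], true)] [8007, 8000] = true := by decide +kernel

/-- the points of `z j g f a b d h` -/
def b8 : List ℕ := [0, 8006, 8005, 8002, 11589, 8004, 8000, 7999]

/-- an element fixing eight points is trivial -/
theorem eq_one_of_eight {w : Fi23} (h : ∀ p ∈ b8, rho w p = p) : w = 1 := by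
  have hc := pchk_act e_c8 (w := w) (p := 8003) (by
    intro c hc
    simp only [List.mem_cons, List.not_mem_nil, or_false] at hc
    rcases hc with rfl | rfl | rfl | rfl | rfl | rfl | rfl | rfl <;>
      (rw [elw_one]; exact (fix_pt_iff w _).1 (h _ (by decide)))) (by simp)
  have hi := pchk_act e_i8 (w := w) (p := 8007) (by
    intro c hc
    simp only [List.mem_cons, List.not_mem_nil, or_false] at hc
    rcases hc with rfl | rfl | rfl | rfl | rfl | rfl | rfl | rfl <;>
      (rw [elw_one]; exact (fix_pt_iff w _).1 (h _ (by decide)))) (by simp)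
  rw [List.mem_singleton] at hc
  have hi : rho w 8007 = 8007 := by
    rcases List.mem_cons.1 hi with hi | hi
    · exact hi
    · exfalso
      rw [List.mem_singleton] at hi
      have h1 := h 8000 (by decide)
      have h2 := (rho w).injective (hi.trans h1.symm)
      exact absurd h2 (by norm_num)
  apply eq_one_of_ten
  intro x hx
  cases x
  case e => exact absurd rfl hx
  case c => exact hc
  case i => exact hi
  all_goals exact h _ (by decide)

/-- both words have the same effect on the masks -/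
noncomputable def eqM (l l' : List Lt) : Bool :=
  and (Nat.beq (appWord (ntw l) (mor b8)) (appWord (ntw l') (mor b8)))
    (and (Nat.beq (appWord (ntw l) (mor [8006, 8002, 8004, 7999])) (appWord (ntw l') (mor [8006, 8002, 8004, 7999])))
      (and (Nat.beq (appWord (ntw l) (mor [8005, 8002, 8000, 7999])) (appWord (ntw l') (mor [8005, 8002, 8000, 7999])))
        (Nat.beq (appWord (ntw l) (mor [11589, 8004, 8000, 7999]))
          (appWord (ntw l') (mor [11589, 8004, 8000, 7999])))))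

theorem app_mor {l l' : List Lt} {m : List ℕ}
    (h : Nat.beq (appWord (ntw l) (mor m)) (appWord (ntw l') (mor m)) = true) (p : ℕ) :
    rho (elw l) p ∈ m ↔ rho (elw l') p ∈ m := by
  have h1 := Nat.eq_of_beq_eq_true h
  rw [← testBit_mor, ← testBit_mor, rho_elw, rho_elw, ← testBit_appWord (ntw_ok l), ← testBit_appWord (ntw_ok l'), h1]

theorem sep8 : ∀ p ∈ b8, ∀ q ∈ b8, (p ∈ [8006, 8002, 8004, 7999] ↔ q ∈ [8006, 8002, 8004, 7999]) →
    (p ∈ [8005, 8002, 8000, 7999] ↔ q ∈ [8005, 8002, 8000, 7999]) →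
    (p ∈ [11589, 8004, 8000, 7999] ↔ q ∈ [11589, 8004, 8000, 7999]) → p = q := by decide +kernel

/-- **equality of words by masks** -/
theorem elw_eq {l l' : List Lt} (h : eqM l l' = true) : elw l = elw l' := by
  unfold eqM at h
  rw [Bool.and_eq_true, Bool.and_eq_true, Bool.and_eq_true] at h
  obtain ⟨h0, h1, h2, h3⟩ := h
  have h4 : elw l' * (elw l)⁻¹ = 1 := by
    apply eq_one_of_eight
    intro p hp
    set q := rho (elw l)⁻¹ p with hq
    have e : rho (elw l) q = p := by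
      rw [hq, ← Equiv.Perm.mul_apply, ← map_mul, mul_inv_cancel, map_one]; rfl
    rw [map_mul, Equiv.Perm.mul_apply, ← hq]
    have a0 := app_mor h0 q
    have a1 := app_mor h1 q
    have a2 := app_mor h2 q
    have a3 := app_mor h3 q
    rw [e] at a0 a1 a2 a3
    exact (sep8 p hp _ (a0.1 hp) a1 a2 a3).symm
  exact (mul_inv_eq_one.1 h4).symm

end Cfsg.Agent.H838.Fi23
end

-- part: H838/Mono
section
/-!
# A 3-group `C3 × (C3 ≀ C3)` in a group with a configuration of transpositions: classes of elements of order 3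
(helper838)
-/

set_option autoImplicit false

namespace Cfsg.Agent.H838.Mono

variable {G : Type*} [Group G]

/-- conjugate up to inversion -/
def CI (x y : G) : Prop := ∃ g : G, g * x * g⁻¹ = y ∨ g * x * g⁻¹ = y⁻¹

theorem CI.refl (x : G) : CI x x := ⟨1, Or.inl (by group)⟩

theorem CI.of_conj {x y : G} (g : G) (h : g * x * g⁻¹ = y) : CI x y := ⟨g, Or.inl h⟩

theorem CI.of_mul {x y : G} (g : G) (h : g * x = y * g) : CI x y := ⟨g, Or.inl (by rw [h, mul_inv_cancel_right])⟩

theorem CI.of_mul_inv {x y : G} (g : G) (h : g * x = y⁻¹ * g) : CI x y :=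
  ⟨g, Or.inr (by rw [h, mul_inv_cancel_right])⟩

theorem CI.inv_left {x y : G} (h : CI x⁻¹ y) : CI x y := by
  obtain ⟨g, h | h⟩ := h
  · refine ⟨g, Or.inr ?_⟩
    rw [← h]; group
  · refine ⟨g, Or.inl ?_⟩
    have : g * x * g⁻¹ = (g * x⁻¹ * g⁻¹)⁻¹ := by group
    rw [this, h, inv_inv]

theorem CI.trans {x y z : G} (h : CI x y) (h' : CI y z) : CI x z := by
  obtain ⟨g, h⟩ := h
  obtain ⟨k, h'⟩ := h'
  refine ⟨k * g, ?_⟩
  have e : k * g * x * (k * g)⁻¹ = k * (g * x * g⁻¹) * k⁻¹ := by group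
  rw [e]
  rcases h with h | h
  · rw [h]; exact h'
  · rw [h]
    have e2 : k * y⁻¹ * k⁻¹ = (k * y * k⁻¹)⁻¹ := by group
    rw [e2]
    rcases h' with h' | h'
    · right; rw [h']
    · left; rw [h', inv_inv]

theorem CI.symm {x y : G} (h : CI x y) : CI y x := by
  obtain ⟨g, h | h⟩ := h
  · refine ⟨g⁻¹, Or.inl ?_⟩
    rw [← h]; group
  · refine ⟨g⁻¹, Or.inr ?_⟩
    have : y = (g * x * g⁻¹)⁻¹ := by rw [h, inv_inv]
    rw [this]; group

/-- powers with exponents modulo 3 -/
def pz (x : G) (i : ZMod 3) : G := x ^ i.val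

theorem pz_zero (x : G) : pz x 0 = 1 := pow_zero x

theorem pz_one (x : G) : pz x 1 = x := pow_one x

theorem pz_two (x : G) : pz x 2 = x ^ 2 := rfl

theorem pz_add {x : G} (hx : x ^ 3 = 1) (i j : ZMod 3) : pz x (i + j) = pz x i * pz x j := by
  unfold pz
  rw [ZMod.val_add, ← pow_add, ← pow_mod_orderOf x ((i.val + j.val) % 3), ← pow_mod_orderOf x (i.val + j.val)]
  congr 1
  exact Nat.mod_mod_of_dvd _ (orderOf_dvd_of_pow_eq_one hx)

theorem pz_neg {x : G} (hx : x ^ 3 = 1) (i : ZMod 3) : pz x (-i) = (pz x i)⁻¹ := by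
  apply eq_inv_of_mul_eq_one_left
  rw [← pz_add hx, neg_add_cancel, pz_zero]

theorem pz_conj (g x : G) (i : ZMod 3) : g * pz x i * g⁻¹ = pz (g * x * g⁻¹) i := by
  unfold pz; rw [conj_pow]

theorem pz_mul {x y : G} (h : Commute x y) (i : ZMod 3) : pz (x * y) i = pz x i * pz y i := h.mul_pow _

theorem pz_inv (x : G) (i : ZMod 3) : pz x⁻¹ i = (pz x i)⁻¹ := inv_pow _ _

/-- the configuration -/
structure Cfg (a b c R t : G) : Prop where
  a2 : a * a = 1
  b2 : b * b = 1
  c2 : c * c = 1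
  r2 : R * R = 1
  ab : a * b * a = b * a * b
  bc : b * c * b = c * b * c
  ac : a * c = c * a
  ar : a * R * a = R * a * R
  br : b * R * b = R * b * R
  cr : c * R = R * c
  t3 : t ^ 3 = 1
  ta : t * a = a * t
  tb : t * b = b * t
  tc : t * c = c * t
  tr : t * R = R * t
  q : (a * R) * (b * (a * R) * b) = (b * (a * R) * b) * (a * R)

/-- the vectors -/
abbrev V := ZMod 3 × ZMod 3 × ZMod 3

section

variable {a b c R t : G} (h : Cfg a b c R t)

include h

theorem ai : a⁻¹ = a := inv_eq_of_mul_eq_one_left h.a2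
theorem bi : b⁻¹ = b := inv_eq_of_mul_eq_one_left h.b2
theorem ci : c⁻¹ = c := inv_eq_of_mul_eq_one_left h.c2
theorem ri : R⁻¹ = R := inv_eq_of_mul_eq_one_left h.r2

theorem q1i : (a * R)⁻¹ = R * a := by rw [mul_inv_rev, ri h, ai h]

theorem q1_3 : (a * R) ^ 3 = 1 := by
  have h1 : (a * R) ^ 3 = (a * R * a) * (R * a * R) := by
    rw [pow_succ, pow_two]; simp only [mul_assoc]
  rw [h1, h.ar]
  calc R * a * R * (R * a * R) = R * a * (R * R) * a * R := by group
    _ = R * (a * a) * R := by rw [h.r2, mul_one, mul_assoc R a a]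
    _ = 1 := by rw [h.a2, mul_one, h.r2]

end

/-- the three generators -/
def q1 (a R : G) : G := a * R
/-- the three generators -/
def q2 (a b R : G) : G := b * q1 a R * b⁻¹
/-- the three generators -/
def q3 (a b c R : G) : G := c * q2 a b R * c⁻¹

/-- the element of a vector -/
def A (a b c R : G) (v : V) : G := pz (q1 a R) v.1 * pz (q2 a b R) v.2.1 * pz (q3 a b c R) v.2.2

section

variable {a b c R t : G} (h : Cfg a b c R t)

include h

theorem q1_pow : (q1 a R) ^ 3 = 1 := q1_3 h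
theorem q2_pow : (q2 a b R) ^ 3 = 1 := by
  unfold q2; rw [conj_pow, q1_pow h, mul_one, mul_inv_cancel]
theorem q3_pow : (q3 a b c R) ^ 3 = 1 := by
  unfold q3; rw [conj_pow, q2_pow h, mul_one, mul_inv_cancel]

theorem c_q1 : c * q1 a R * c⁻¹ = q1 a R := by
  unfold q1
  rw [← mul_assoc c a R, ← h.ac, mul_assoc a c R, h.cr, mul_inv_eq_iff_eq_mul, mul_assoc]

theorem b_q2 : b * q2 a b R * b⁻¹ = q1 a R := by
  unfold q2
  rw [bi h]
  calc b * (b * q1 a R * b) * b = (b * b) * q1 a R * (b * b) := by group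
    _ = q1 a R := by rw [h.b2, one_mul, mul_one]

theorem c_q3 : c * q3 a b c R * c⁻¹ = q2 a b R := by
  unfold q3
  rw [ci h]
  calc c * (c * q2 a b R * c) * c = (c * c) * q2 a b R * (c * c) := by group
    _ = q2 a b R := by rw [h.c2, one_mul, mul_one]

theorem b_q3 : b * q3 a b c R * b⁻¹ = q3 a b c R := by
  have e := c_q1 h
  unfold q3 q2
  rw [bi h, ci h] at *
  calc b * (c * (b * q1 a R * b) * c) * b = (b * c * b) * q1 a R * (b * c * b) := by group
    _ = (c * b * c) * q1 a R * (c * b * c) := by rw [h.bc]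
    _ = c * b * (c * q1 a R * c) * b * c := by group
    _ = _ := by rw [e]; group

theorem a_q1 : a * q1 a R * a⁻¹ = (q1 a R)⁻¹ := by
  unfold q1
  rw [q1i h, ai h, ← mul_assoc a a R, h.a2, one_mul]

theorem a_q2 : a * q2 a b R * a⁻¹ = q2 a b R * (q1 a R)⁻¹ := by
  unfold q2 q1
  rw [q1i h, ai h, bi h]
  calc a * (b * (a * R) * b) * a = (a * b * a) * R * b * a := by group
    _ = b * a * (b * R * b) * a := by rw [h.ab]; group
    _ = b * a * (R * b * R) * a := by rw [h.br]
    _ = _ := by group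

theorem a_q3 : a * q3 a b c R * a⁻¹ = q3 a b c R * (q1 a R)⁻¹ := by
  have e1 := a_q2 h
  have e2 := c_q1 h
  have hac : a * c = c * a := h.ac
  unfold q3
  rw [ci h, ai h] at *
  calc a * (c * q2 a b R * c) * a = (a * c) * q2 a b R * (c * a) := by group
    _ = (c * a) * q2 a b R * (a * c) := by rw [hac]
    _ = c * (a * q2 a b R * a) * c := by group
    _ = c * (q2 a b R * (q1 a R)⁻¹) * c := by rw [e1]
    _ = c * q2 a b R * (c * c) * (q1 a R)⁻¹ * c := by rw [h.c2]; group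
    _ = c * q2 a b R * c * (c * (q1 a R)⁻¹ * c) := by group
    _ = c * q2 a b R * c * (c * q1 a R * c)⁻¹ := by rw [mul_inv_rev, mul_inv_rev, ci h, mul_assoc c (q1 a R)⁻¹ c]
    _ = _ := by rw [e2]

theorem c12 : Commute (q1 a R) (q2 a b R) := by
  have := h.q
  unfold q2 q1
  rw [bi h]
  exact this

theorem c13 : Commute (q1 a R) (q3 a b c R) := by
  have e := (c12 h).conj c
  rwa [c_q1 h] at e

theorem c23 : Commute (q2 a b R) (q3 a b c R) := by
  have e := (c13 h).conj b
  rwa [b_q3 h] at e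

theorem A_add (v w : V) : A a b c R (v + w) = A a b c R v * A a b c R w := by
  unfold A
  rw [Prod.fst_add, Prod.snd_add, Prod.fst_add, Prod.snd_add, pz_add (q1_pow h), pz_add (q2_pow h),
    pz_add (q3_pow h)]
  have e12 : ∀ i j, Commute (pz (q1 a R) i) (pz (q2 a b R) j) := fun i j => (c12 h).pow_pow _ _
  have e13 : ∀ i j, Commute (pz (q1 a R) i) (pz (q3 a b c R) j) := fun i j => (c13 h).pow_pow _ _
  have e23 : ∀ i j, Commute (pz (q2 a b R) i) (pz (q3 a b c R) j) := fun i j => (c23 h).pow_pow _ _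
  calc pz (q1 a R) v.1 * pz (q1 a R) w.1 * (pz (q2 a b R) v.2.1 * pz (q2 a b R) w.2.1) *
        (pz (q3 a b c R) v.2.2 * pz (q3 a b c R) w.2.2)
      = pz (q1 a R) v.1 * (pz (q1 a R) w.1 * pz (q2 a b R) v.2.1) * pz (q2 a b R) w.2.1 *
        (pz (q3 a b c R) v.2.2 * pz (q3 a b c R) w.2.2) := by group
    _ = pz (q1 a R) v.1 * (pz (q2 a b R) v.2.1 * pz (q1 a R) w.1) * pz (q2 a b R) w.2.1 *
        (pz (q3 a b c R) v.2.2 * pz (q3 a b c R) w.2.2) := by rw [(e12 _ _).eq]
    _ = pz (q1 a R) v.1 * pz (q2 a b R) v.2.1 * (pz (q1 a R) w.1 * (pz (q2 a b R) w.2.1 *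
        pz (q3 a b c R) v.2.2)) * pz (q3 a b c R) w.2.2 := by group
    _ = pz (q1 a R) v.1 * pz (q2 a b R) v.2.1 * (pz (q1 a R) w.1 * (pz (q3 a b c R) v.2.2 *
        pz (q2 a b R) w.2.1)) * pz (q3 a b c R) w.2.2 := by rw [(e23 _ _).eq]
    _ = pz (q1 a R) v.1 * pz (q2 a b R) v.2.1 * ((pz (q1 a R) w.1 * pz (q3 a b c R) v.2.2) *
        pz (q2 a b R) w.2.1) * pz (q3 a b c R) w.2.2 := by group
    _ = pz (q1 a R) v.1 * pz (q2 a b R) v.2.1 * ((pz (q3 a b c R) v.2.2 * pz (q1 a R) w.1) *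
        pz (q2 a b R) w.2.1) * pz (q3 a b c R) w.2.2 := by rw [(e13 _ _).eq]
    _ = _ := by group

omit h in
theorem A_zero : A a b c R 0 = 1 := by
  unfold A
  rw [Prod.fst_zero, Prod.snd_zero, Prod.fst_zero, Prod.snd_zero, pz_zero, pz_zero, pz_zero, one_mul, one_mul]

theorem A_neg (v : V) : A a b c R (-v) = (A a b c R v)⁻¹ := by
  apply eq_inv_of_mul_eq_one_left
  rw [← A_add h, neg_add_cancel, A_zero]

omit h in
theorem conj3 (g x y z : G) : g * (x * y * z) * g⁻¹ = (g * x * g⁻¹) * (g * y * g⁻¹) * (g * z * g⁻¹) := by group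

theorem A_b (v : V) : b * A a b c R v * b⁻¹ = A a b c R (v.2.1, v.1, v.2.2) := by
  unfold A
  rw [conj3, pz_conj, pz_conj, pz_conj, b_q2 h, b_q3 h]
  change pz (q2 a b R) v.1 * pz (q1 a R) v.2.1 * _ = pz (q1 a R) v.2.1 * pz (q2 a b R) v.1 * _
  have e : Commute (pz (q1 a R) v.2.1) (pz (q2 a b R) v.1) := (c12 h).pow_pow v.2.1.val v.1.val
  rw [e.eq]

theorem A_c (v : V) : c * A a b c R v * c⁻¹ = A a b c R (v.1, v.2.2, v.2.1) := by
  unfold A
  rw [conj3, pz_conj, pz_conj, pz_conj, c_q1 h, c_q3 h]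
  change pz (q1 a R) v.1 * pz (q3 a b c R) v.2.1 * pz (q2 a b R) v.2.2 =
    pz (q1 a R) v.1 * pz (q2 a b R) v.2.2 * pz (q3 a b c R) v.2.1
  have e : Commute (pz (q2 a b R) v.2.2) (pz (q3 a b c R) v.2.1) := (c23 h).pow_pow v.2.2.val v.2.1.val
  rw [mul_assoc, mul_assoc, e.eq]

theorem A_a (v : V) : a * A a b c R v * a⁻¹ = A a b c R (-v.1 - v.2.1 - v.2.2, v.2.1, v.2.2) := by
  unfold A
  rw [conj3, pz_conj, pz_conj, pz_conj, a_q1 h, a_q2 h, a_q3 h, pz_inv, pz_mul (c12 h).symm.inv_right,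
    pz_mul (c13 h).symm.inv_right, pz_inv, pz_inv]
  change _ = pz (q1 a R) (-v.1 - v.2.1 - v.2.2) * pz (q2 a b R) v.2.1 * pz (q3 a b c R) v.2.2
  have e : pz (q1 a R) (-v.1 - v.2.1 - v.2.2) = (pz (q1 a R) v.1)⁻¹ * (pz (q1 a R) v.2.1)⁻¹ * (pz (q1 a R) v.2.2)⁻¹ := by
    rw [sub_eq_add_neg, sub_eq_add_neg, pz_add (q1_pow h), pz_add (q1_pow h), pz_neg (q1_pow h), pz_neg (q1_pow h),
      pz_neg (q1_pow h)]
  rw [e]
  have e12 : ∀ i j, Commute (pz (q1 a R) i)⁻¹ (pz (q2 a b R) j) := fun i j => ((c12 h).pow_pow _ _).inv_left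
  have e13 : ∀ i j, Commute (pz (q1 a R) i)⁻¹ (pz (q3 a b c R) j) := fun i j => ((c13 h).pow_pow _ _).inv_left
  calc (pz (q1 a R) v.1)⁻¹ * (pz (q2 a b R) v.2.1 * (pz (q1 a R) v.2.1)⁻¹) *
        (pz (q3 a b c R) v.2.2 * (pz (q1 a R) v.2.2)⁻¹)
      = (pz (q1 a R) v.1)⁻¹ * ((pz (q1 a R) v.2.1)⁻¹ * pz (q2 a b R) v.2.1) *
        ((pz (q1 a R) v.2.2)⁻¹ * pz (q3 a b c R) v.2.2) := by rw [(e12 _ _).eq, (e13 _ _).eq]
    _ = (pz (q1 a R) v.1)⁻¹ * (pz (q1 a R) v.2.1)⁻¹ * (pz (q2 a b R) v.2.1 * (pz (q1 a R) v.2.2)⁻¹) *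
        pz (q3 a b c R) v.2.2 := by group
    _ = (pz (q1 a R) v.1)⁻¹ * (pz (q1 a R) v.2.1)⁻¹ * ((pz (q1 a R) v.2.2)⁻¹ * pz (q2 a b R) v.2.1) *
        pz (q3 a b c R) v.2.2 := by rw [(e12 v.2.2 v.2.1).eq]
    _ = _ := by group

end

/-! ### The monomial action on the vectors -/

/-- the three letters -/
inductive L3 : Type
  | a | b | c
  deriving DecidableEq

/-- the action of a letter on a vector -/
def ac : L3 → V → V
  | .a, v => (-v.1 - v.2.1 - v.2.2, v.2.1, v.2.2)
  | .b, v => (v.2.1, v.1, v.2.2)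
  | .c, v => (v.1, v.2.2, v.2.1)

/-- the element of a letter -/
def e3 (a b c : G) : L3 → G
  | .a => a
  | .b => b
  | .c => c

/-- the action of a word on a vector -/
def acw : List L3 → V → V
  | [], v => v
  | x :: u, v => ac x (acw u v)

/-- the element of a word -/
def w3 (a b c : G) : List L3 → G
  | [] => 1
  | x :: u => e3 a b c x * w3 a b c u

/-- `a b` -/
def sg (v : V) : V := ac .a (ac .b v)

theorem red_dec : ∀ v : V, ∃ u ∈ ([[], [.a], [.b], [.c], [.b, .a], [.c, .a], [.a, .b], [.c, .b], [.b, .c], [.a, .b,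
    .a], [.c, .b, .a], [.b, .c, .a], [.c, .a, .b], [.b, .c, .b], [.a, .b, .c], [.c, .a, .b, .a], [.b, .c, .b, .a],
    [.a, .b, .c, .a], [.b, .c, .a, .b], [.a, .b, .c, .b], [.b, .c, .a, .b, .a], [.a, .b, .c, .b, .a], [.a, .b, .c,
    .a, .b], [.a, .b, .c, .a, .b, .a]] : List (List L3)),
    acw u v = 0 ∨ acw u v = (1, 0, 0) ∨ acw u v = (1, 1, 0) ∨ acw u v = (2, 2, 0) ∨ acw u v = (1, 1, 2) := by
  decide +kernel

theorem sg_dec : ∀ v : V, v + sg v + sg (sg v) = 0 → ∃ u : V, v = u - sg u := by decide +kernel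

theorem z3_cases : ∀ i : ZMod 3, i = 0 ∨ i = 1 ∨ i = 2 := by decide

theorem sg_neg : ∀ v : V, sg (-v) = - sg v := by decide +kernel

section

variable {a b c R t : G} (h : Cfg a b c R t)

include h

theorem A_e3 (x : L3) (v : V) : e3 a b c x * A a b c R v * (e3 a b c x)⁻¹ = A a b c R (ac x v) := by
  cases x
  · exact A_a h v
  · exact A_b h v
  · exact A_c h v

theorem A_w3 (u : List L3) (v : V) : w3 a b c u * A a b c R v * (w3 a b c u)⁻¹ = A a b c R (acw u v) := by
  induction u with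
  | nil => simp [w3, acw]
  | cons x u ih =>
    have e : w3 a b c (x :: u) * A a b c R v * (w3 a b c (x :: u))⁻¹ =
        e3 a b c x * (w3 a b c u * A a b c R v * (w3 a b c u)⁻¹) * (e3 a b c x)⁻¹ := by
      change (e3 a b c x * w3 a b c u) * A a b c R v * (e3 a b c x * w3 a b c u)⁻¹ = _
      group
    rw [e, ih, A_e3 h]
    rfl

theorem t_w3 (u : List L3) : Commute t (w3 a b c u) := by
  induction u with
  | nil => exact Commute.one_right t
  | cons x u ih =>
    refine Commute.mul_right ?_ ih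
    cases x
    · exact h.ta
    · exact h.tb
    · exact h.tc

theorem t_q1 : Commute t (q1 a R) := Commute.mul_right h.ta h.tr

theorem t_q2 : Commute t (q2 a b R) := (Commute.mul_right h.tb (t_q1 h)).mul_right (show Commute t b from h.tb).inv_right

theorem t_q3 : Commute t (q3 a b c R) := (Commute.mul_right h.tc (t_q2 h)).mul_right (show Commute t c from h.tc).inv_right

theorem t_A (v : V) : Commute t (A a b c R v) :=
  (((t_q1 h).pow_right _).mul_right ((t_q2 h).pow_right _)).mul_right ((t_q3 h).pow_right _)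

theorem t_s : Commute t (a * b) := Commute.mul_right h.ta h.tb

theorem s_i : (a * b)⁻¹ = b * a := by rw [mul_inv_rev, ai h, bi h]

theorem s_3 : (a * b) ^ 3 = 1 := by
  have h1 : (a * b) ^ 3 = (a * b * a) * (b * a * b) := by
    rw [pow_succ, pow_two]; simp only [mul_assoc]
  rw [h1, h.ab]
  calc b * a * b * (b * a * b) = b * a * (b * b) * a * b := by group
    _ = b * (a * a) * b := by rw [h.b2, mul_one, mul_assoc b a a]
    _ = 1 := by rw [h.a2, mul_one, h.b2]

theorem A_s (v : V) : (a * b) * A a b c R v = A a b c R (sg v) * (a * b) := by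
  have e : (a * b) * A a b c R v * (a * b)⁻¹ = A a b c R (sg v) := by
    have e1 := A_w3 h [.a, .b] v
    simpa [w3, e3, acw, sg] using e1
  rw [← e, inv_mul_cancel_right]

theorem A_sn (n : ℕ) (v : V) : (a * b) ^ n * A a b c R v = A a b c R (sg^[n] v) * (a * b) ^ n := by
  induction n generalizing v with
  | zero => simp
  | succ n ih =>
    rw [pow_succ, mul_assoc, A_s h, ← mul_assoc, ih, mul_assoc, ← pow_succ, Function.iterate_succ_apply]

/-- the elements of the 3-group -/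
def F (a b c R t : G) (u : ZMod 3 × V × ZMod 3) : G := pz t u.1 * A a b c R u.2.1 * pz (a * b) u.2.2

theorem F_mul (u w : ZMod 3 × V × ZMod 3) : F a b c R t u * F a b c R t w =
    F a b c R t (u.1 + w.1, u.2.1 + sg^[u.2.2.val] w.2.1, u.2.2 + w.2.2) := by
  unfold F
  have e1 : Commute (pz (a * b) u.2.2) (pz t w.1) := ((t_s h).symm.pow_pow _ _)
  have e2 : Commute (A a b c R u.2.1) (pz t w.1) := ((t_A h _).symm.pow_right _)
  have e3 : pz (a * b) u.2.2 * A a b c R w.2.1 = A a b c R (sg^[u.2.2.val] w.2.1) * pz (a * b) u.2.2 := A_sn h _ _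
  rw [pz_add h.t3, A_add h, pz_add (s_3 h)]
  calc pz t u.1 * A a b c R u.2.1 * pz (a * b) u.2.2 * (pz t w.1 * A a b c R w.2.1 * pz (a * b) w.2.2)
      = pz t u.1 * A a b c R u.2.1 * (pz (a * b) u.2.2 * pz t w.1) * A a b c R w.2.1 * pz (a * b) w.2.2 := by group
    _ = pz t u.1 * A a b c R u.2.1 * (pz t w.1 * pz (a * b) u.2.2) * A a b c R w.2.1 * pz (a * b) w.2.2 := by
      rw [e1.eq]
    _ = pz t u.1 * (A a b c R u.2.1 * pz t w.1) * (pz (a * b) u.2.2 * A a b c R w.2.1) * pz (a * b) w.2.2 := by group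
    _ = pz t u.1 * (pz t w.1 * A a b c R u.2.1) * (A a b c R (sg^[u.2.2.val] w.2.1) * pz (a * b) u.2.2) *
        pz (a * b) w.2.2 := by rw [e2.eq, e3]
    _ = _ := by group

theorem F_inv (u : ZMod 3 × V × ZMod 3) : (F a b c R t u)⁻¹ =
    F a b c R t (-u.1, sg^[(-u.2.2).val] (-u.2.1), -u.2.2) := by
  unfold F
  have e1 : Commute (pz (a * b) (-u.2.2)) (pz t (-u.1)) := ((t_s h).symm.pow_pow _ _)
  have e2 : Commute (A a b c R (-u.2.1)) (pz t (-u.1)) := ((t_A h _).symm.pow_right _)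
  have e3 : pz (a * b) (-u.2.2) * A a b c R (-u.2.1) = A a b c R (sg^[(-u.2.2).val] (-u.2.1)) * pz (a * b) (-u.2.2) :=
    A_sn h _ _
  rw [mul_inv_rev, mul_inv_rev, ← pz_neg h.t3, ← A_neg h, ← pz_neg (s_3 h), ← mul_assoc, e3, mul_assoc, e1.eq]
  change _ = pz t (-u.1) * A a b c R (sg^[(-u.2.2).val] (-u.2.1)) * pz (a * b) (-u.2.2)
  have e4 : Commute (A a b c R (sg^[(-u.2.2).val] (-u.2.1))) (pz t (-u.1)) := (t_A h _).symm.pow_right _
  rw [← mul_assoc, e4.eq]

/-- the 3-group -/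
def P : Subgroup G where
  carrier := Set.range (F a b c R t)
  one_mem' := ⟨(0, 0, 0), by
    unfold F; rw [pz_zero, pz_zero]; change 1 * A a b c R 0 * 1 = 1; rw [A_zero, one_mul, one_mul]⟩
  mul_mem' := by
    rintro _ _ ⟨u, rfl⟩ ⟨w, rfl⟩
    exact ⟨_, (F_mul h u w).symm⟩
  inv_mem' := by
    rintro _ ⟨u, rfl⟩
    exact ⟨_, (F_inv h u).symm⟩

theorem card_le : Nat.card ↥(P h) ≤ 243 := by
  have h1 : Nat.card ↥(P h) ≤ Nat.card (ZMod 3 × V × ZMod 3) :=
    Nat.card_le_card_of_surjective (fun u => (⟨F a b c R t u, u, rfl⟩ : ↥(P h))) (by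
      rintro ⟨_, u, rfl⟩
      exact ⟨u, rfl⟩)
  have h2 : Nat.card (ZMod 3 × V × ZMod 3) = 243 := by
    simp only [V, Nat.card_prod, Nat.card_zmod]
  rwa [h2] at h1

theorem F_inj (hc : 243 ≤ Nat.card ↥(P h)) : Function.Injective (F a b c R t) := by
  have h2 : Nat.card (ZMod 3 × V × ZMod 3) = 243 := by
    simp only [V, Nat.card_prod, Nat.card_zmod]
  have hs : Function.Surjective (fun u => (⟨F a b c R t u, u, rfl⟩ : ↥(P h))) := by
    rintro ⟨_, u, rfl⟩
    exact ⟨u, rfl⟩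
  have hf : Finite ↥(P h) := Finite.of_surjective _ hs
  have hb : Function.Bijective (fun u => (⟨F a b c R t u, u, rfl⟩ : ↥(P h))) := by
    rw [Nat.bijective_iff_surjective_and_card]
    exact ⟨hs, by rw [h2]; exact le_antisymm hc (card_le h)⟩
  intro u w huw
  exact hb.1 (Subtype.ext huw)

/-! ### Elements of order 3 -/

/-- the list of the representatives -/
def Rep (a b c R t : G) (y : G) : Prop :=
  y = q1 a R ∨ y = A a b c R (1, 1, 0) ∨ y = A a b c R (1, 1, 2) ∨ y = t ∨ y = t * A a b c R (1, 0, 0) ∨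
    y = t * A a b c R (1, 1, 0) ∨ y = t * A a b c R (2, 2, 0) ∨ y = t * A a b c R (1, 1, 2) ∨ y = a * b ∨
    y = t * (a * b)

theorem case0 (i : ZMod 3) (v : V) (hne : pz t i * A a b c R v ≠ 1) (hi : i = 0 ∨ i = 1) :
    ∃ y, Rep a b c R t y ∧ CI (pz t i * A a b c R v) y := by
  obtain ⟨u, -, hu⟩ := red_dec v
  have e : w3 a b c u * (pz t i * A a b c R v) * (w3 a b c u)⁻¹ = pz t i * A a b c R (acw u v) := by
    have e5 : Commute (w3 a b c u) (pz t i) := (t_w3 h u).symm.pow_right _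
    rw [← A_w3 h, ← mul_assoc, e5.eq]
    group
  have e1 : A a b c R (1, 0, 0) = q1 a R := by
    unfold A
    change pz (q1 a R) 1 * pz (q2 a b R) 0 * pz (q3 a b c R) 0 = _
    rw [pz_zero, pz_zero, pz_one, mul_one, mul_one]
  rcases hi with rfl | rfl
  · rw [pz_zero, one_mul] at hne e ⊢
    rw [one_mul] at e
    rcases hu with hu | hu | hu | hu | hu <;> rw [hu] at e
    · exfalso
      apply hne
      rw [A_zero, mul_inv_eq_one] at e
      exact mul_left_cancel (e.trans (mul_one _).symm)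
    · exact ⟨_, Or.inl rfl, w3 a b c u, Or.inl (by rw [e, e1])⟩
    · exact ⟨_, Or.inr (Or.inl rfl), w3 a b c u, Or.inl e⟩
    · refine ⟨_, Or.inr (Or.inl rfl), w3 a b c u, Or.inr ?_⟩
      rw [e, ← A_neg h]
      rfl
    · exact ⟨_, Or.inr (Or.inr (Or.inl rfl)), w3 a b c u, Or.inl e⟩
  · rw [pz_one] at hne e ⊢
    rcases hu with hu | hu | hu | hu | hu <;> rw [hu] at e
    · rw [A_zero, mul_one] at e
      exact ⟨_, Or.inr (Or.inr (Or.inr (Or.inl rfl))), w3 a b c u, Or.inl e⟩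
    · exact ⟨_, Or.inr (Or.inr (Or.inr (Or.inr (Or.inl rfl)))), w3 a b c u, Or.inl e⟩
    · exact ⟨_, Or.inr (Or.inr (Or.inr (Or.inr (Or.inr (Or.inl rfl))))), w3 a b c u, Or.inl e⟩
    · exact ⟨_, Or.inr (Or.inr (Or.inr (Or.inr (Or.inr (Or.inr (Or.inl rfl)))))), w3 a b c u, Or.inl e⟩
    · exact ⟨_, Or.inr (Or.inr (Or.inr (Or.inr (Or.inr (Or.inr (Or.inr (Or.inl rfl))))))), w3 a b c u, Or.inl e⟩

theorem case1 (hinj : Function.Injective (F a b c R t)) (i : ZMod 3) (v : V)
    (h3 : (F a b c R t (i, v, 1)) ^ 3 = 1) : ∃ y, Rep a b c R t y ∧ CI (F a b c R t (i, v, 1)) y := by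
  have e0 : F a b c R t (i, v, 1) = pz t i * (A a b c R v * (a * b)) := by
    unfold F
    change pz t i * A a b c R v * pz (a * b) 1 = _
    rw [pz_one, mul_assoc]
  have hN : v + sg v + sg (sg v) = 0 := by
    rw [pow_succ, pow_two, F_mul h, F_mul h] at h3
    have e1 : (1 : G) = F a b c R t (0, 0, 0) := by
      unfold F; rw [pz_zero, pz_zero]; change 1 = 1 * A a b c R 0 * 1; rw [A_zero, one_mul, one_mul]
    rw [e1] at h3
    have h4 := congrArg (fun u : ZMod 3 × V × ZMod 3 => u.2.1) (hinj h3)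
    exact h4
  obtain ⟨u, hu⟩ := sg_dec v hN
  have e2 : A a b c R u * (pz t i * (a * b)) * (A a b c R u)⁻¹ = F a b c R t (i, v, 1) := by
    have e5 : Commute (A a b c R u) (pz t i) := (t_A h u).symm.pow_right _
    rw [e0, ← A_neg h, mul_assoc, mul_assoc, A_s h, sg_neg, ← mul_assoc, ← mul_assoc, hu, sub_eq_add_neg, A_add h,
      e5.eq]
    group
  have e3 : CI (F a b c R t (i, v, 1)) (pz t i * (a * b)) := by
    refine ⟨(A a b c R u)⁻¹, Or.inl ?_⟩
    rw [← e2]; group
  have hcase := z3_cases i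
  rcases hcase with rfl | rfl | rfl
  · rw [pz_zero, one_mul] at e3
    exact ⟨_, Or.inr (Or.inr (Or.inr (Or.inr (Or.inr (Or.inr (Or.inr (Or.inr (Or.inl rfl)))))))), e3⟩
  · rw [pz_one] at e3
    exact ⟨_, Or.inr (Or.inr (Or.inr (Or.inr (Or.inr (Or.inr (Or.inr (Or.inr (Or.inr rfl)))))))), e3⟩
  · refine ⟨_, Or.inr (Or.inr (Or.inr (Or.inr (Or.inr (Or.inr (Or.inr (Or.inr (Or.inr rfl)))))))), e3.trans ?_⟩
    refine ⟨a, Or.inr ?_⟩
    have e4 : pz t 2 = t⁻¹ := by
      rw [pz_two]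
      apply eq_inv_of_mul_eq_one_left
      rw [← pow_succ]; exact h.t3
    have hta : Commute t⁻¹ a := (show Commute t a from h.ta).inv_left
    rw [e4, (t_s h).mul_inv, s_i h, ai h, ← mul_assoc, ← hta.eq]
    calc t⁻¹ * a * (a * b) * a = t⁻¹ * ((a * a) * b * a) := by group
      _ = _ := by rw [h.a2, one_mul]

/-- **the elements of order 3 of the 3-group up to conjugacy and inversion** -/
theorem classify (hc : 243 ≤ Nat.card ↥(P h)) {x : G} (hx : x ∈ P h) (h3 : x ^ 3 = 1) (hne : x ≠ 1) :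
    ∃ y, Rep a b c R t y ∧ CI x y := by
  have hinj := F_inj h hc
  obtain ⟨⟨i, v, m⟩, rfl⟩ := hx
  have hm := z3_cases m
  rcases hm with rfl | rfl | rfl
  · have e0 : ∀ i v, F a b c R t (i, v, 0) = pz t i * A a b c R v := by
      intro i v
      unfold F
      change pz t i * A a b c R v * pz (a * b) 0 = _
      rw [pz_zero, mul_one]
    have hi := z3_cases i
    rcases hi with hi | hi | hi
    · rw [e0] at hne ⊢
      exact case0 h i v hne (Or.inl hi)
    · rw [e0] at hne ⊢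
      exact case0 h i v hne (Or.inr hi)
    · have e1 := F_inv h (i, v, 0)
      have e2 : F a b c R t (-i, sg^[(-(0 : ZMod 3)).val] (-v), -0) = pz t 1 * A a b c R (-v) := by
        rw [hi, neg_zero]
        exact e0 1 (-v)
      have e3 : (F a b c R t (i, v, 0))⁻¹ = pz t 1 * A a b c R (-v) := e1.trans e2
      obtain ⟨y, hy, hy'⟩ := case0 h 1 (-v) (by rw [← e3]; exact inv_ne_one.2 hne) (Or.inr rfl)
      exact ⟨y, hy, CI.inv_left (by rw [e3]; exact hy')⟩
  · exact case1 h hinj i v h3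
  · have e1 := F_inv h (i, v, 2)
    have e3 : (F a b c R t (i, v, 2))⁻¹ = F a b c R t (-i, sg^[(-(2 : ZMod 3)).val] (-v), 1) := e1
    obtain ⟨y, hy, hy'⟩ := case1 h hinj (-i) (sg^[(-(2 : ZMod 3)).val] (-v)) (by rw [← e3, inv_pow, h3, inv_one])
    exact ⟨y, hy, CI.inv_left (by rw [e3]; exact hy')⟩

end

end Cfsg.Agent.H838.Mono
end

-- part: H838/ThreeCl
section
/-!
# `Fi23`: every subgroup of order 3 is conjugate to one of four (helper838)
-/

set_option autoImplicit false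
set_option linter.constructorNameAsVariable false
set_option maxRecDepth 100000

namespace Cfsg.Agent.H838.Three

open Subgroup Cfsg Cfsg.Agent.Lib.PermNet Cfsg.Agent.Lib.PermNetOrbit Cfsg.Agent.Fischer.Fi23Hom
  Cfsg.Agent.LThreeFi23 Cfsg.Agent.H838.Fi23 Cfsg.Agent.H838.Mono
open Cfsg.Spor (Fi23)

/-! ### Words -/

/-- an element of order 3 permuting `h`, `e`, `z` and commuting with `a`, `b`, `c`, `R` -/
def wt : List Lt := [.d, .e, .f, .g, .j, .z, .h, .d, .e, .f, .g, .j, .i, .h, .d, .e, .f, .g, .c, .d, .h, .i, .b, .c, .d, .h, .a, .b,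
    .c, .d, .e, .f, .a, .b, .c, .d, .h, .i, .e, .d, .h, .c, .d, .e, .b, .c, .d, .h, .a, .b, .c, .d, .e, .i, .h, .d,
    .a, .b, .a]

/-- the transposition of the point 1698 -/
def wR : List Lt := [.a, .b, .c, .d, .h, .i, .e, .d, .h, .f, .e, .d, .c, .b, .a, .b, .c, .d, .e, .f, .h, .d, .e, .i, .h, .d, .c, .b, .a]

/-- the prefix of `wR` -/
def wR0 : List Lt := [.a, .b, .c, .d, .h, .i, .e, .d, .h, .f, .e, .d, .c, .b]

/-- the class with 135 fixed transpositions -/
def y135 : List Lt := [.a, .b, .h, .i]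
/-- the class with 324 fixed transpositions -/
def y324 : List Lt := [.h, .i, .e, .f, .z, .j]
/-- the class with 27 fixed transpositions -/
def y27 : List Lt := [.a, .b, .h, .i, .z, .j]

/-- conjugating word: A(1,1,0) to y324 -/
def g1 : List Lt := [.g, .j, .z, .c, .d, .h, .i, .e, .d, .h, .c, .d, .e, .f, .g, .j, .h, .i, .d, .h, .c, .d, .e, .f, .g, .i, .e, .b,
    .c, .d, .h, .a, .b, .c, .d, .e, .f, .d, .h, .i, .e, .d, .h, .b, .c, .d, .e, .c, .d, .h, .i, .a, .b, .c, .d, .h,
    .a, .b]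
/-- conjugating word: A(1,1,2) to y135 inv -/
def g2 : List Lt := [.d, .h, .i, .e, .d, .h, .f, .g, .e, .f, .d, .e, .c, .d, .h, .i, .b, .c, .d, .h, .a, .b, .c, .d, .e, .f, .g, .d,
    .e, .a, .b, .c, .d, .h, .i, .f, .e, .d, .h, .a, .b, .c, .d, .e, .f, .a, .b, .c, .d, .e, .d, .h, .i, .d, .h, .a,
    .b, .c, .d, .b, .c, .a]
/-- conjugating word: t to y135 -/
def g3 : List Lt := [.h, .c, .d, .e, .f, .g, .j, .h, .a, .b, .c, .d, .e, .f, .g, .b, .c, .d, .h, .e, .f, .d, .e, .c, .d, .h, .i, .h,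
    .d, .e, .b, .c, .d, .h, .a, .b, .c, .d, .e, .f, .i, .h, .a, .b, .c, .d, .e, .d, .c, .b]
/-- conjugating word: tA(1,0,0) to y27 inv -/
def g4 : List Lt := [.b, .c, .b, .a, .h, .d, .c, .e, .d, .c, .b, .h, .d, .i, .h, .f, .e, .d, .h, .g, .f, .e, .d, .c, .b, .h, .d, .c,
    .e, .d, .i, .h, .d, .c, .e, .d, .f, .e, .g, .f, .j, .g, .f, .e, .d, .c, .h, .d, .e, .i, .z]
/-- conjugating word: tA(1,1,0) to y27 -/
def g5 : List Lt := [.z, .d, .e, .f, .g, .j, .h, .d, .e, .b, .c, .d, .h, .i, .e, .f, .d, .e, .c, .d, .h, .b, .c, .d, .e, .f, .g, .i,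
    .h, .d, .e, .f, .e, .d, .h, .a, .b, .c, .d, .e, .b, .c, .d, .h, .a, .b, .c, .d, .b]
/-- conjugating word: tA(2,2,0) to y324 -/
def g6 : List Lt := [.d, .h, .i, .h, .d, .c, .f, .e, .d, .c, .h, .g, .f, .e, .d, .c, .h, .d, .e, .f, .i, .h, .d, .c, .e, .d, .j, .g,
    .f, .e, .d, .c, .h, .d, .e, .i, .h, .z, .j, .g]
/-- conjugating word: tA(1,1,2) to y135 inv -/
def g7 : List Lt := [.a, .d, .c, .h, .d, .i, .h, .d, .e, .d, .c, .h, .f, .e, .d, .h, .g, .f, .e, .d, .c, .b, .a, .h, .d, .c, .b, .e,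
    .d, .f, .e, .i, .j, .g, .f, .e, .d, .c, .b, .a, .h, .d, .c, .e, .d, .f, .i, .h, .d, .c, .b, .e, .d, .c, .f, .g,
    .h]
/-- conjugating word: ts to y27 -/
def g8 : List Lt := [.a, .c, .d, .c, .b, .a, .i, .h, .d, .c, .e, .d, .c, .b, .a, .h, .d, .i, .h, .f, .e, .d, .c, .b, .a, .g, .f, .e,
    .d, .c, .b, .a, .j, .g, .f, .e, .d, .c, .b, .a, .z, .j, .g, .f, .e, .d, .c]

def wq1 : List Lt := .a :: wR
def wq2 : List Lt := (.b :: wq1 : List Cfsg.Agent.LThreeFi23.Lt) ++ ([.b] : List Cfsg.Agent.LThreeFi23.Lt)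
def wq3 : List Lt := (.c :: wq2 : List Cfsg.Agent.LThreeFi23.Lt) ++ ([.c] : List Cfsg.Agent.LThreeFi23.Lt)
/-- the word of a vector -/
def wA (i j k : ℕ) : List Lt := wrep wq1 i ++ (wrep wq2 j ++ wrep wq3 k)

/-! ### Kernel checks -/

set_option Elab.async false in
theorem k_t3 : eqM (wt ++ (wt ++ wt)) [] = true := by (rewrite [show @Cfsg.Agent.H838.Fi23.eqM = delta% @Cfsg.Agent.H838.Fi23.eqM from by delta Cfsg.Agent.H838.Fi23.eqM; rfl, Cfsg.Agent.Lib.PermNetFast.appWord_fast]; decide +kernel)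
set_option Elab.async false in
theorem k_q : eqM (wq1 ++ wq2) (wq2 ++ wq1) = true := by (rewrite [show @Cfsg.Agent.H838.Fi23.eqM = delta% @Cfsg.Agent.H838.Fi23.eqM from by delta Cfsg.Agent.H838.Fi23.eqM; rfl, Cfsg.Agent.Lib.PermNetFast.appWord_fast]; decide +kernel)
set_option Elab.async false in
theorem k1 : eqM (g1 ++ wA 1 1 0) (y324 ++ g1) = true := by (rewrite [show @Cfsg.Agent.H838.Fi23.eqM = delta% @Cfsg.Agent.H838.Fi23.eqM from by delta Cfsg.Agent.H838.Fi23.eqM; rfl, Cfsg.Agent.Lib.PermNetFast.appWord_fast]; decide +kernel)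
set_option Elab.async false in
theorem k2 : eqM (g2 ++ wA 1 1 2) (y135.reverse ++ g2) = true := by (rewrite [show @Cfsg.Agent.H838.Fi23.eqM = delta% @Cfsg.Agent.H838.Fi23.eqM from by delta Cfsg.Agent.H838.Fi23.eqM; rfl, Cfsg.Agent.Lib.PermNetFast.appWord_fast]; decide +kernel)
set_option Elab.async false in
theorem k3 : eqM (g3 ++ wt) (y135 ++ g3) = true := by (rewrite [show @Cfsg.Agent.H838.Fi23.eqM = delta% @Cfsg.Agent.H838.Fi23.eqM from by delta Cfsg.Agent.H838.Fi23.eqM; rfl, Cfsg.Agent.Lib.PermNetFast.appWord_fast]; decide +kernel)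
set_option Elab.async false in
theorem k4 : eqM (g4 ++ (wt ++ wA 1 0 0)) (y27.reverse ++ g4) = true := by (rewrite [show @Cfsg.Agent.H838.Fi23.eqM = delta% @Cfsg.Agent.H838.Fi23.eqM from by delta Cfsg.Agent.H838.Fi23.eqM; rfl, Cfsg.Agent.Lib.PermNetFast.appWord_fast]; decide +kernel)
set_option Elab.async false in
theorem k5 : eqM (g5 ++ (wt ++ wA 1 1 0)) (y27 ++ g5) = true := by (rewrite [show @Cfsg.Agent.H838.Fi23.eqM = delta% @Cfsg.Agent.H838.Fi23.eqM from by delta Cfsg.Agent.H838.Fi23.eqM; rfl, Cfsg.Agent.Lib.PermNetFast.appWord_fast]; decide +kernel)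
set_option Elab.async false in
theorem k6 : eqM (g6 ++ (wt ++ wA 2 2 0)) (y324 ++ g6) = true := by (rewrite [show @Cfsg.Agent.H838.Fi23.eqM = delta% @Cfsg.Agent.H838.Fi23.eqM from by delta Cfsg.Agent.H838.Fi23.eqM; rfl, Cfsg.Agent.Lib.PermNetFast.appWord_fast]; decide +kernel)
set_option Elab.async false in
theorem k7 : eqM (g7 ++ (wt ++ wA 1 1 2)) (y135.reverse ++ g7) = true := by (rewrite [show @Cfsg.Agent.H838.Fi23.eqM = delta% @Cfsg.Agent.H838.Fi23.eqM from by delta Cfsg.Agent.H838.Fi23.eqM; rfl, Cfsg.Agent.Lib.PermNetFast.appWord_fast]; decide +kernel)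
set_option Elab.async false in
theorem k8 : eqM (g8 ++ (wt ++ ([.a, .b] : List Cfsg.Agent.LThreeFi23.Lt))) (y27 ++ g8) = true := by (rewrite [show @Cfsg.Agent.H838.Fi23.eqM = delta% @Cfsg.Agent.H838.Fi23.eqM from by delta Cfsg.Agent.H838.Fi23.eqM; rfl, Cfsg.Agent.Lib.PermNetFast.appWord_fast]; decide +kernel)

/-- values of words at points -/
noncomputable def ptsChk (l : List (List Lt × ℕ × ℕ)) : Bool := l.all fun u => Nat.beq (ptw u.1 u.2.1) u.2.2

theorem ptsChk_spec {l : List (List Lt × ℕ × ℕ)} (h : ptsChk l = true) : ∀ u ∈ l, rho (elw u.1) u.2.1 = u.2.2 := by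
  unfold ptsChk at h
  rw [List.all_eq_true] at h
  intro u hu
  rw [← ptw_eq]
  exact Nat.eq_of_beq_eq_true (h u hu)

set_option Elab.async false in
theorem k_pts : ptsChk [(wt, 11589, 11589), (wt, 8004, 8004), (wt, 8003, 8003), (wt, 1698, 1698), (wt, 7999, 8001),
    (wt, 8001, 0), (wt, 0, 7999), (wR0, 11589, 1698), (wR, 8003, 8003), (wR, 7999, 7999), (wR, 8001, 8001),
    (wR, 0, 0)] = true := by (rewrite [show @Cfsg.Agent.H838.Three.ptsChk = delta% @Cfsg.Agent.H838.Three.ptsChk from by delta Cfsg.Agent.H838.Three.ptsChk; rfl, show @Cfsg.Agent.LThreeFi23.ptw = delta% @Cfsg.Agent.LThreeFi23.ptw from by delta Cfsg.Agent.LThreeFi23.ptw; rfl, Cfsg.Agent.Lib.PermNetFast.ptWord_fast]; decide +kernel)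

theorem k_na : Nat.beq (ptw wR 11589) 11589 = false := by decide +kernel
theorem k_nb : Nat.beq (ptw wR 8004) 8004 = false := by decide +kernel

theorem k_orb : Nat.ble 243 (Lib.PermNetPat.pc 15 (orbM [wt, [.a, .b], wq1, wq3] 45 4)) = true := by decide +kernel

/-! ### The configuration -/

theorem R_eq : elw wR = T 1698 := by
  have h1 : rho (elw wR0) 11589 = 1698 := ptsChk_spec k_pts (wR0, 11589, 1698) (by simp)
  rw [← h1, T_act (elw wR0) (show (11589 : ℕ) < 31671 by norm_num), T_a, ← elw_reverse, ← elw_one, ← elw_append,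
    ← elw_append]
  rfl

theorem ncom_of {w : List Lt} {p q : ℕ} (hT : elw w = T p) (h : Nat.beq (ptw w q) q = false) : ¬ Com p q := by
  intro h1
  unfold Com at h1
  rw [← hT, ← ptw_eq] at h1
  rw [h1, Nat.beq_refl] at h
  exact Bool.noConfusion h

theorem q1_eq : elw wq1 = q1 (el .a) (elw wR) := elw_cons _ _

theorem q2_eq : elw wq2 = q2 (el .a) (el .b) (elw wR) := by
  unfold wq2 q2
  rw [List.cons_append, elw_cons, elw_append, elw_one, q1_eq, el_inv, mul_assoc]

theorem q3_eq : elw wq3 = q3 (el .a) (el .b) (el .c) (elw wR) := by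
  unfold wq3 q3
  rw [List.cons_append, elw_cons, elw_append, elw_one, q2_eq, el_inv, mul_assoc]

theorem A_eq (v : V) : elw (wA v.1.val v.2.1.val v.2.2.val) = A (el .a) (el .b) (el .c) (elw wR) v := by
  unfold wA A pz
  rw [elw_append, elw_append, elw_wrep, elw_wrep, elw_wrep, q1_eq, q2_eq, q3_eq, mul_assoc]

theorem cfg : Cfg (el .a) (el .b) (el .c) (elw wR) (elw wt) where
  a2 := el_sq _
  b2 := el_sq _
  c2 := el_sq _
  r2 := by rw [R_eq]; exact T_sq (by norm_num)
  ab := br _ _ (by decide)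
  bc := br _ _ (by decide)
  ac := lt_comm .a .c (by decide)
  ar := by
    have h := braid (p := 1698) (q := 11589) (by norm_num) (by norm_num) (ncom_of R_eq k_na)
    rw [← R_eq, T_a] at h
    exact h.symm
  br := by
    have h := braid (p := 1698) (q := 8004) (by norm_num) (by norm_num) (ncom_of R_eq k_nb)
    rw [← R_eq, T_b] at h
    exact h.symm
  cr := ((fix_pt_iff (elw wR) .c).1 (ptsChk_spec k_pts (wR, 8003, 8003) (by simp))).symm
  t3 := by
    have h := elw_eq k_t3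
    rw [elw_append, elw_append, elw_nil, ← mul_assoc] at h
    rw [pow_succ, pow_two]; exact h
  ta := (fix_pt_iff (elw wt) .a).1 (ptsChk_spec k_pts (wt, 11589, 11589) (by simp))
  tb := (fix_pt_iff (elw wt) .b).1 (ptsChk_spec k_pts (wt, 8004, 8004) (by simp))
  tc := (fix_pt_iff (elw wt) .c).1 (ptsChk_spec k_pts (wt, 8003, 8003) (by simp))
  tr := by
    rw [R_eq]
    exact (fix_iff (elw wt) (by norm_num)).1 (ptsChk_spec k_pts (wt, 1698, 1698) (by simp))
  q := by
    have h := elw_eq k_q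
    rw [elw_append, elw_append, q1_eq, q2_eq] at h
    unfold q2 q1 at h
    rw [el_inv] at h
    exact h

/-- the 3-group -/
def Pw : Subgroup Fi23 := Mono.P cfg

theorem t_mem : elw wt ∈ Pw := by
  refine ⟨(1, 0, 0), ?_⟩
  unfold F
  change pz (elw wt) 1 * A _ _ _ _ 0 * pz _ 0 = _
  rw [pz_one, pz_zero, A_zero, mul_one, mul_one]

theorem s_mem : elw [.a, .b] ∈ Pw := by
  refine ⟨(0, 0, 1), ?_⟩
  unfold F
  change pz (elw wt) 0 * A _ _ _ _ 0 * pz _ 1 = _
  rw [pz_one, pz_zero, A_zero, one_mul, one_mul, elw_cons, elw_one]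

theorem A_mem (v : V) : A (el .a) (el .b) (el .c) (elw wR) v ∈ Pw := by
  refine ⟨(0, v, 0), ?_⟩
  unfold F
  change pz (elw wt) 0 * A _ _ _ _ v * pz _ 0 = _
  rw [pz_zero, pz_zero, one_mul, mul_one]

theorem q1_mem : elw wq1 ∈ Pw := by
  have h := A_mem (1, 0, 0)
  unfold A at h
  change pz _ 1 * pz _ 0 * pz _ 0 ∈ Pw at h
  rwa [pz_one, pz_zero, pz_zero, mul_one, mul_one, ← q1_eq] at h

theorem q3_mem : elw wq3 ∈ Pw := by
  have h := A_mem (0, 0, 1)
  unfold A at h
  change pz _ 0 * pz _ 0 * pz _ 1 ∈ Pw at h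
  rwa [pz_one, pz_zero, pz_zero, one_mul, one_mul, ← q3_eq] at h

theorem Pw_card_ge : 243 ≤ Nat.card ↥Pw := by
  have h1 := Nat.le_of_ble_eq_true k_orb
  rw [← Lib.PermNetPat.card_filter_testBit] at h1
  refine h1.trans ?_
  have key : ∀ q, (orbM [wt, [.a, .b], wq1, wq3] 45 4).testBit q = true → ∃ g ∈ Pw, rho g 45 = q := by
    intro q hq
    unfold orbM at hq
    obtain ⟨k, ⟨g, hg, rfl⟩, hk⟩ := sat_point_spec (K := Pw.map rho) (ntws_ok _)
      (fun u hu => by
        obtain ⟨v, hv, rfl⟩ := mem_ntws hu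
        refine ⟨elw v, ?_, rho_elw v⟩
        simp only [List.mem_cons, List.not_mem_nil, or_false] at hv
        rcases hv with rfl | rfl | rfl | rfl
        · exact t_mem
        · exact s_mem
        · exact q1_mem
        · exact q3_mem) 4 hq
    exact ⟨g, hg, hk⟩
  classical
  set S := {p ∈ Finset.range (2 ^ 15) | (orbM [wt, [Lt.a, Lt.b], wq1, wq3] 45 4).testBit p = true} with hS
  rw [← Nat.card_eq_finsetCard]
  have hk : ∀ q : ↥S, ∃ g ∈ Pw, rho g 45 = q.1 := fun q => key q.1 (Finset.mem_filter.1 q.2).2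
  choose f hf hf' using hk
  refine Nat.card_le_card_of_injective (fun q : ↥S => (⟨f q, hf q⟩ : ↥Pw)) ?_
  intro q q' h
  have h2 : f q = f q' := congrArg Subtype.val h
  apply Subtype.ext
  rw [← hf' q, ← hf' q', h2]

theorem Pw_card : Nat.card ↥Pw = 243 := le_antisymm (Mono.card_le cfg) Pw_card_ge

/-! ### The stabilizers of a commuting triple -/

theorem card_stab {fx : List ℕ} {b : ℕ} {S : Finset ℕ} (hS : ∀ q, q ∈ S ↔ ∃ g ∈ stab fx, rho g b = q) :
    Nat.card ↥(stab fx) = S.card * Nat.card ↥(stab (b :: fx)) := by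
  let act : MulAction ↥(stab fx) ℕ := MulAction.compHom ℕ (rho.comp (stab fx).subtype)
  have hsmul : ∀ (n : ↥(stab fx)) (x : ℕ), n • x = rho (n : Fi23) x := fun n x => rfl
  have horb : MulAction.orbit ↥(stab fx) b = (S : Set ℕ) := by
    ext q
    rw [Finset.mem_coe, hS]
    constructor
    · rintro ⟨n, hn⟩
      exact ⟨n.1, n.2, hn⟩
    · rintro ⟨g, hg, hq⟩
      exact ⟨⟨g, hg⟩, hq⟩
  have h8 := Nat.card_congr (MulAction.orbitProdStabilizerEquivGroup ↥(stab fx) b)
  have h9 : Nat.card ↥(MulAction.stabilizer ↥(stab fx) b) = Nat.card ↥(stab (b :: fx)) := by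
    refine Nat.card_congr ⟨fun n => ⟨n.1.1, ?_⟩, fun n => ⟨⟨n.1, ?_⟩, ?_⟩, fun n => rfl, fun n => rfl⟩
    · intro p hp
      rcases List.mem_cons.1 hp with rfl | hp
      · exact n.2
      · exact n.1.2 p hp
    · intro p hp
      exact n.2 p (List.mem_cons_of_mem _ hp)
    · exact n.2 b List.mem_cons_self
  rw [Nat.card_prod, horb, h9] at h8
  rw [← h8]
  congr 1
  rw [Nat.card_coe_set_eq, Set.ncard_coe_finset]

theorem card_stab0 : Nat.card ↥(stab []) = Nat.card Fi23 := by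
  have : stab [] = ⊤ := by
    rw [eq_top_iff]
    intro g _ p hp
    exact absurd hp (by simp)
  rw [this, Nat.card_congr Subgroup.topEquiv.toEquiv]

theorem inv_app {g : Fi23} {p q : ℕ} (h : rho g p = q) : rho g⁻¹ q = p := by
  rw [map_inv, Equiv.Perm.inv_eq_iff_eq, h]

theorem card_stab1 {p : ℕ} (hp : p < 31671) : Nat.card Fi23 = 31671 * Nat.card ↥(stab [p]) := by
  rw [← card_stab0, card_stab (b := p) (S := Finset.range 31671), Finset.card_range]
  intro q
  rw [Finset.mem_range]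
  constructor
  · intro hq
    obtain ⟨g, hg⟩ := conjZ0 hp
    obtain ⟨k, hk⟩ := conjZ0 hq
    exact ⟨k⁻¹ * g, fun p hp => absurd hp (by simp), by
      rw [map_mul, Equiv.Perm.mul_apply, hg, inv_app hk]⟩
  · rintro ⟨g, -, rfl⟩
    exact act_lt g hp

theorem card_stab2 {p q : ℕ} (hp : p < 31671) (hq : q < 31671) (h : Com p q) (hne : q ≠ p) :
    Nat.card ↥(stab [p]) = 3510 * Nat.card ↥(stab [q, p]) := by
  rw [card_stab (b := q) (S := (CS [p]).erase p)]
  · rw [Finset.card_erase_of_mem, card1 hp]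
    rw [mem_CS]
    exact ⟨hp, by simpa using com_self hp⟩
  · intro r
    rw [Finset.mem_erase, mem_CS]
    constructor
    · rintro ⟨h1, h2, h3⟩
      obtain ⟨g, hg, hg'⟩ := conjZ1 hp hq h hne
      obtain ⟨k, hk, hk'⟩ := conjZ1 hp h2 (h3 p (by simp)) h1
      refine ⟨k⁻¹ * g, ?_, ?_⟩
      · intro s hs
        rw [List.mem_singleton] at hs
        subst hs
        rw [map_mul, Equiv.Perm.mul_apply, hg, inv_app hk]
      · rw [map_mul, Equiv.Perm.mul_apply, hg', inv_app hk']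
    · rintro ⟨g, hg, rfl⟩
      have hg1 : rho g p = p := hg p (by simp)
      refine ⟨ne_g hg1 hne, act_lt g hq, ?_⟩
      intro s hs
      rw [List.mem_singleton] at hs
      subst hs
      exact (com_g hp hg1).2 h

theorem card_stab3 {p q r : ℕ} (hp : p < 31671) (hq : q < 31671) (hr : r < 31671) (h : Com p q) (hne : q ≠ p)
    (h1 : Com p r) (h2 : Com q r) (hne1 : r ≠ p) (hne2 : r ≠ q) :
    Nat.card ↥(stab [q, p]) = 693 * Nat.card ↥(stab [r, q, p]) := by
  rw [card_stab (b := r) (S := ((CS [p, q]).erase p).erase q)]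
  · rw [Finset.card_erase_of_mem, Finset.card_erase_of_mem, card_za hp hq h hne]
    · rw [mem_CS]
      refine ⟨hp, ?_⟩
      simp only [List.mem_cons, List.not_mem_nil, or_false, forall_eq_or_imp, forall_eq]
      exact ⟨com_self hp, (com_comm hp hq).1 h⟩
    · rw [Finset.mem_erase, mem_CS]
      refine ⟨hne, hq, ?_⟩
      simp only [List.mem_cons, List.not_mem_nil, or_false, forall_eq_or_imp, forall_eq]
      exact ⟨h, com_self hq⟩
  · intro s
    rw [Finset.mem_erase, Finset.mem_erase, mem_CS]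
    simp only [List.mem_cons, List.not_mem_nil, or_false, forall_eq_or_imp, forall_eq]
    constructor
    · rintro ⟨hs1, hs2, hs, hs3, hs4⟩
      obtain ⟨g, e1, e2, e3⟩ := conjZ2 hp hq hr h hne h1 h2 hne1 hne2
      obtain ⟨k, f1, f2, f3⟩ := conjZ2 hp hq hs h hne hs3 hs4 hs2 hs1
      refine ⟨k⁻¹ * g, ?_, ?_⟩
      · intro u hu
        simp only [List.mem_cons, List.not_mem_nil, or_false] at hu
        rcases hu with rfl | rfl
        · rw [map_mul, Equiv.Perm.mul_apply, e2, inv_app f2]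
        · rw [map_mul, Equiv.Perm.mul_apply, e1, inv_app f1]
      · rw [map_mul, Equiv.Perm.mul_apply, e3, inv_app f3]
    · rintro ⟨g, hg, rfl⟩
      have hg1 : rho g p = p := hg p (by simp)
      have hg2 : rho g q = q := hg q (by simp)
      exact ⟨ne_g hg2 hne2, ne_g hg1 hne1, act_lt g hr, (com_g hp hg1).2 h1, (com_g hq hg2).2 h2⟩

/-- the points of `h`, `e`, `z` -/
def L3' : List ℕ := [7999, 8001, 0]

theorem com_he : Com 7999 8001 := by
  rw [show (7999 : ℕ) = pt .h from rfl, com_pt_iff, show (8001 : ℕ) = pt .e from rfl, fix_pt_iff]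
  exact lt_comm .h .e (by decide)

theorem com_hz : Com 7999 0 := by
  rw [show (7999 : ℕ) = pt .h from rfl, com_pt_iff, show (0 : ℕ) = pt .z from rfl, fix_pt_iff]
  exact lt_comm .h .z (by decide)

theorem com_ez : Com 8001 0 := by
  rw [show (8001 : ℕ) = pt .e from rfl, com_pt_iff, show (0 : ℕ) = pt .z from rfl, fix_pt_iff]
  exact lt_comm .e .z (by decide)

theorem card_L3 : Nat.card ↥(stab L3') = 53084160 := by
  have hc := card_G
  have hs : ∀ {p q : ℕ}, p < 31671 → q < 31671 → Com p q → Com q p := fun hp hq h => (com_comm hp hq).1 h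
  rw [card_stab1 (p := 0) (by norm_num), card_stab2 (q := 8001) (by norm_num) (by norm_num)
    (hs (by norm_num) (by norm_num) com_ez) (by norm_num),
    card_stab3 (r := 7999) (by norm_num) (by norm_num) (by norm_num) (hs (by norm_num) (by norm_num) com_ez)
      (by norm_num) (hs (by norm_num) (by norm_num) com_hz) (hs (by norm_num) (by norm_num) com_he) (by norm_num)
      (by norm_num)] at hc
  change 31671 * (3510 * (693 * Nat.card ↥(stab L3'))) = _ at hc
  omega

/-- the setwise stabilizer of the three points -/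
def K : Subgroup Fi23 where
  carrier := {g | ∀ p, rho g p ∈ L3' ↔ p ∈ L3'}
  one_mem' := fun p => by rw [map_one]; rfl
  mul_mem' := fun {g h} hg hh p => by
    rw [map_mul, Equiv.Perm.mul_apply, hg, hh]
  inv_mem' := fun {g} hg p => by
    rw [← hg (rho g⁻¹ p), ← Equiv.Perm.mul_apply, ← map_mul, mul_inv_cancel, map_one]; rfl

/-- the action of `K` on the three points -/
noncomputable def phi : ↥K →* Equiv.Perm {p // p ∈ L3'} where
  toFun g := (rho g.1).subtypePerm g.2
  map_one' := by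
    apply Equiv.ext; intro p; apply Subtype.ext
    change rho (1 : Fi23) p.1 = p.1
    rw [map_one]; rfl
  map_mul' g h := by
    apply Equiv.ext; intro p; apply Subtype.ext
    change rho (g.1 * h.1) p.1 = rho g.1 (rho h.1 p.1)
    rw [map_mul]; rfl

theorem card_K : ¬ 3 ^ 6 ∣ Nat.card ↥K := by
  have h1 : Nat.card ↥phi.ker = 53084160 := by
    rw [← card_L3]
    refine Nat.card_congr ⟨fun n => ⟨n.1.1, ?_⟩, fun n => ⟨⟨n.1, ?_⟩, ?_⟩, fun n => rfl, fun n => rfl⟩
    · intro p hp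
      have h := n.2
      rw [MonoidHom.mem_ker] at h
      exact congrArg (fun f : Equiv.Perm {p // p ∈ L3'} => (f ⟨p, hp⟩).1) h
    · intro p
      constructor
      · intro hp
        have h := n.2 _ hp
        have h2 : rho n.1 p = p := (rho n.1).injective h
        rwa [h2] at hp
      · intro hp
        rw [n.2 p hp]; exact hp
    · rw [MonoidHom.mem_ker]
      apply Equiv.ext
      intro p
      apply Subtype.ext
      exact n.2 p.1 p.2
  have h2 : Nat.card ↥phi.range ∣ 6 := by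
    have h := Subgroup.card_subgroup_dvd_card phi.range
    have h3 : Nat.card (Equiv.Perm {p // p ∈ L3'}) = 6 := by
      rw [Nat.card_perm]
      have : Nat.card {p // p ∈ L3'} = 3 := by
        rw [Nat.card_eq_fintype_card]
        rfl
      rw [this]; rfl
    rwa [h3] at h
  have h3 : Nat.card ↥K = Nat.card ↥phi.ker * Nat.card ↥phi.range := by
    rw [← Subgroup.index_ker, Subgroup.card_mul_index]
  rw [h3, h1]
  intro h
  have h4 : 3 ^ 6 ∣ 53084160 * 6 := h.trans (mul_dvd_mul_left _ h2)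
  norm_num at h4

theorem K_of_cycle {x : Fi23} (h1 : rho x 7999 = 8001) (h2 : rho x 8001 = 0) (h3 : rho x 0 = 7999) : x ∈ K := by
  intro p
  unfold L3'
  constructor
  · intro h
    simp only [List.mem_cons, List.not_mem_nil, or_false] at h ⊢
    rcases h with h | h | h
    · rw [← h3] at h; exact Or.inr (Or.inr ((rho x).injective h))
    · rw [← h1] at h; exact Or.inl ((rho x).injective h)
    · rw [← h2] at h; exact Or.inr (Or.inl ((rho x).injective h))
  · intro h
    simp only [List.mem_cons, List.not_mem_nil, or_false] at h ⊢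
    rcases h with rfl | rfl | rfl
    · exact Or.inr (Or.inl h1)
    · exact Or.inr (Or.inr h2)
    · exact Or.inl h3

theorem K_of_fix {x : Fi23} (h1 : rho x 7999 = 7999) (h2 : rho x 8001 = 8001) (h3 : rho x 0 = 0) : x ∈ K := by
  intro p
  unfold L3'
  constructor
  · intro h
    simp only [List.mem_cons, List.not_mem_nil, or_false] at h ⊢
    rcases h with h | h | h
    · rw [← h1] at h; exact Or.inl ((rho x).injective h)
    · rw [← h2] at h; exact Or.inr (Or.inl ((rho x).injective h))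
    · rw [← h3] at h; exact Or.inr (Or.inr ((rho x).injective h))
  · intro h
    simp only [List.mem_cons, List.not_mem_nil, or_false] at h ⊢
    rcases h with rfl | rfl | rfl
    · exact Or.inl h1
    · exact Or.inr (Or.inl h2)
    · exact Or.inr (Or.inr h3)

theorem let_K (x : Lt) (h1 : adjL x .h = false) (h2 : adjL x .e = false) (h3 : adjL x .z = false) : el x ∈ K :=
  K_of_fix ((fix_pt_iff _ .h).2 (lt_comm _ _ h1)) ((fix_pt_iff _ .e).2 (lt_comm _ _ h2))
    ((fix_pt_iff _ .z).2 (lt_comm _ _ h3))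

theorem Pw_le : Pw ≤ K := by
  have ha : el .a ∈ K := let_K .a (by decide) (by decide) (by decide)
  have hb : el .b ∈ K := let_K .b (by decide) (by decide) (by decide)
  have hc : el .c ∈ K := let_K .c (by decide) (by decide) (by decide)
  have hR : elw wR ∈ K := K_of_fix (ptsChk_spec k_pts (wR, 7999, 7999) (by simp))
    (ptsChk_spec k_pts (wR, 8001, 8001) (by simp)) (ptsChk_spec k_pts (wR, 0, 0) (by simp))
  have ht : elw wt ∈ K := K_of_cycle (ptsChk_spec k_pts (wt, 7999, 8001) (by simp))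
    (ptsChk_spec k_pts (wt, 8001, 0) (by simp)) (ptsChk_spec k_pts (wt, 0, 7999) (by simp))
  have h1 : q1 (el .a) (elw wR) ∈ K := mul_mem ha hR
  have h2 : q2 (el .a) (el .b) (elw wR) ∈ K := mul_mem (mul_mem hb h1) (inv_mem hb)
  have h3 : q3 (el .a) (el .b) (el .c) (elw wR) ∈ K := mul_mem (mul_mem hc h2) (inv_mem hc)
  rintro _ ⟨u, rfl⟩
  exact mul_mem (mul_mem (pow_mem ht _) (mul_mem (mul_mem (pow_mem h1 _) (pow_mem h2 _)) (pow_mem h3 _)))
    (pow_mem (mul_mem ha hb) _)

/-- an element of order 3 of `K` is conjugate to an element of the 3-group -/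
theorem conj_K {x : Fi23} (hx : x ^ 3 = 1) (hK : x ∈ K) : ∃ g : Fi23, g * x * g⁻¹ ∈ Pw := by
  have : Fact (Nat.Prime 3) := ⟨by norm_num⟩
  have hcard : Nat.card ↥(Pw.subgroupOf K) = 3 ^ 5 := by
    rw [Nat.card_congr (Subgroup.subgroupOfEquivOfLe Pw_le).toEquiv, Pw_card]; norm_num
  obtain ⟨g, hg⟩ := exists_conj_mem (G := ↥K) (p := 3) (n := 5) (Pw.subgroupOf K) (IsPGroup.of_card hcard)
    (by rw [hcard]) card_K (y := ⟨x, hK⟩) (k := 1) (by
      rw [pow_one]
      exact Subtype.ext hx)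
  exact ⟨g.1, Subgroup.mem_subgroupOf.1 hg⟩

/-! ### The classes -/

/-- the four representatives -/
def rep (k : Fin 4) : Fi23 := ![uu, elw y135, elw y324, elw y27] k

theorem ci_uu {p q : ℕ} (hp : p < 31671) (hq : q < 31671) (h : ¬ Com p q) : CI (T p * T q) uu := by
  obtain ⟨g, hg⟩ := isConj_iff.1 (isConj_of_pair hp hq h)
  exact ⟨g, Or.inl hg⟩

theorem ci_of {g y r : List Lt} (h : eqM (g ++ y) (r ++ g) = true) : CI (elw y) (elw r) := by
  have h1 := elw_eq h
  rw [elw_append, elw_append] at h1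
  exact CI.of_mul _ h1

theorem ci_of_inv {g y r : List Lt} (h : eqM (g ++ y) (r.reverse ++ g) = true) : CI (elw y) (elw r) := by
  have h1 := elw_eq h
  rw [elw_append, elw_append, elw_reverse] at h1
  exact CI.of_mul_inv _ h1

theorem rep_cases {y : Fi23} (hy : Rep (el .a) (el .b) (el .c) (elw wR) (elw wt) y) : ∃ k, CI y (rep k) := by
  have h2 : elw y135 = rep 1 := rfl
  have h3 : elw y324 = rep 2 := rfl
  have h4 : elw y27 = rep 3 := rfl
  rcases hy with rfl | rfl | rfl | rfl | rfl | rfl | rfl | rfl | rfl | rfl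
  · refine ⟨0, ?_⟩
    have h := ci_uu (p := 11589) (q := 1698) (by norm_num) (by norm_num) (fun h =>
      ncom_of R_eq k_na ((com_comm (by norm_num) (by norm_num)).1 h))
    rw [T_a, ← R_eq] at h
    exact h
  · rw [← A_eq]; exact ⟨2, ci_of k1⟩
  · rw [← A_eq]; exact ⟨1, ci_of_inv k2⟩
  · exact ⟨1, ci_of k3⟩
  · rw [← A_eq, ← elw_append]; exact ⟨3, ci_of_inv k4⟩
  · rw [← A_eq, ← elw_append]; exact ⟨3, ci_of k5⟩
  · rw [← A_eq, ← elw_append]; exact ⟨2, ci_of k6⟩
  · rw [← A_eq, ← elw_append]; exact ⟨1, ci_of_inv k7⟩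
  · refine ⟨0, ?_⟩
    have h := ci_uu (p := 11589) (q := 8004) (by norm_num) (by norm_num) ncom_ab
    rw [T_a, T_b] at h
    exact h
  · have e : elw wt * (el .a * el .b) = elw (wt ++ ([.a, .b] : List Cfsg.Agent.LThreeFi23.Lt)) := by rw [elw_append, elw_cons, elw_one]
    rw [e]; exact ⟨3, ci_of k8⟩

/-- **every element of order 3 is conjugate, up to inversion, to one of the four representatives** -/
theorem classes {x : Fi23} (hx : x ^ 3 = 1) (hne : x ≠ 1) : ∃ k, CI x (rep k) := by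
  obtain ⟨p, q, r, hp, hq, hr, h1, h2, h3, h4, h5, h6, h⟩ := exists_trip hx
  obtain ⟨g, e1, e2, e3⟩ := conjZ2 hp hq hr h4 h1 h5 h6 h2 h3
  obtain ⟨k, f1, f2, f3⟩ := conjZ2 (p := 7999) (q := 8001) (r := 0) (by norm_num) (by norm_num) (by norm_num) com_he
    (by norm_num) com_hz com_ez (by norm_num) (by norm_num)
  have a1 : rho (k⁻¹ * g) p = 7999 := by rw [map_mul, Equiv.Perm.mul_apply, e1, inv_app f1]
  have a2 : rho (k⁻¹ * g) q = 8001 := by rw [map_mul, Equiv.Perm.mul_apply, e2, inv_app f2]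
  have a3 : rho (k⁻¹ * g) r = 0 := by rw [map_mul, Equiv.Perm.mul_apply, e3, inv_app f3]
  set m := k⁻¹ * g with hm
  have app : ∀ {u v u' v' : ℕ}, rho m u = u' → rho m v = v' → rho x u = v → rho (m * x * m⁻¹) u' = v' := by
    intro u v u' v' hu hv huv
    rw [map_mul, map_mul, Equiv.Perm.mul_apply, Equiv.Perm.mul_apply, inv_app hu, huv, hv]
  have hK : m * x * m⁻¹ ∈ K := by
    rcases h with ⟨h7, h8, h9⟩ | ⟨h7, h8, h9⟩
    · exact K_of_cycle (app a1 a2 h7) (app a2 a3 h8) (app a3 a1 h9)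
    · exact K_of_fix (app a1 a1 h7) (app a2 a2 h8) (app a3 a3 h9)
  have hx' : (m * x * m⁻¹) ^ 3 = 1 := by rw [conj_pow, hx, mul_one, mul_inv_cancel]
  obtain ⟨n, hn⟩ := conj_K hx' hK
  have e : n * (m * x * m⁻¹) * n⁻¹ = (n * m) * x * (n * m)⁻¹ := by group
  rw [e] at hn
  have hx2 : ((n * m) * x * (n * m)⁻¹) ^ 3 = 1 := by rw [conj_pow, hx, mul_one, mul_inv_cancel]
  obtain ⟨y, hy, hy'⟩ := classify cfg Pw_card_ge hn hx2 (conj_ne hne _)
  obtain ⟨j, hj⟩ := rep_cases hy
  exact ⟨j, ((CI.of_conj _ rfl).trans hy').trans hj⟩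

end Cfsg.Agent.H838.Three
end

private theorem dce_5e1558adcad0 : _root_.True := by
  try have : _root_.True := by simp only [_root_.Cfsg.Agent.H838.Mono.e3.eq_1]
  try have : _root_.True := by simp only [_root_.Cfsg.Agent.H838.Mono.e3.eq_2]
  try have : _root_.True := by simp only [_root_.Cfsg.Agent.H838.Mono.w3.eq_1]
  try have : _root_.True := by simp only [_root_.Cfsg.Agent.H838.Mono.e3.eq_3]
  try have : _root_.True := by simp only [_root_.Cfsg.Agent.H838.Mono.acw.eq_1]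
  try have : _root_.True := by simp only [_root_.Cfsg.Agent.H838.Mono.sg.eq_1]
  try have : _root_.True := by simp only [_root_.Cfsg.Agent.H838.Mono.w3.eq_2]
  try have : _root_.True := by simp only [_root_.Cfsg.Agent.H838.Mono.acw.eq_2]
  try have : _root_.True := by simp only [_root_.Cfsg.Agent.H838.Mono.acw.eq_def]
  try have : _root_.True := by simp only [_root_.Cfsg.Agent.H838.Mono.w3.eq_def]
  exact _root_.True.intro
end

-- part: H838/PCoreAbs
section
set_option linter.all false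
open scoped Cfsg.Agent.FastGrp

/-!
# A group of order `3^9 · 96` with a surjective homomorphism to `C2 × GL2(3)` (helper838)
-/

set_option autoImplicit false

namespace Cfsg.Agent.H838.PCoreAbs

open Subgroup Cfsg Cfsg.Agent.Lib.Cores
open Matrix (GeneralLinearGroup)

/-- the quotient -/
abbrev TT : Type := Multiplicative (ZMod 2) × GeneralLinearGroup (Fin 2) (ZMod 3)

theorem card_TT : Nat.card TT = 96 := by
  have h1 : Nat.card (GeneralLinearGroup (Fin 2) (ZMod 3)) = 48 := by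
    rw [Matrix.card_GL_field]
    simp [Fin.prod_univ_two, ZMod.card]
  rw [Nat.card_prod, h1]
  have : Nat.card (Multiplicative (ZMod 2)) = 2 := by
    rw [Nat.card_congr Multiplicative.toAdd]; exact Nat.card_zmod 2
  rw [this]

/-- the upper transvection -/
def up : GeneralLinearGroup (Fin 2) (ZMod 3) :=
  ⟨!![1, 1; 0, 1], !![1, 2; 0, 1], by decide, by decide⟩
/-- the lower transvection -/
def lo : GeneralLinearGroup (Fin 2) (ZMod 3) :=
  ⟨!![1, 0; 1, 1], !![1, 0; 2, 1], by decide, by decide⟩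

theorem up_pow : up ^ 3 = 1 := by
  apply Units.ext; decide
theorem lo_pow : lo ^ 3 = 1 := by
  apply Units.ext; decide

/-- a normal 3-subgroup of `C2 × GL2(3)` lies in every subgroup of order 3 -/
theorem le_of_three {P : Subgroup TT} (hn : P.Normal) (hP : IsPGroup 3 ↥P) {u : TT} (hu : u ^ 3 = 1) (hu1 : u ≠ 1) :
    P ≤ zpowers u := by
  have h3 : Fact (Nat.Prime 3) := ⟨by norm_num⟩
  have hfin : Finite TT := Nat.finite_of_card_ne_zero (by rw [card_TT]; norm_num)
  have ho : Nat.card ↥(zpowers u) = 3 := by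
    rw [Nat.card_zpowers, orderOf_eq_prime hu hu1]
  have hU : IsPGroup 3 ↥(zpowers u) := IsPGroup.of_card (n := 1) (by rw [ho, pow_one])
  have hs : IsPGroup 3 ↥(P ⊔ zpowers u : Subgroup TT) := hP.to_sup_of_normal_left hU
  obtain ⟨n, hn'⟩ := IsPGroup.iff_card.1 hs
  have hdvd : 3 ^ n ∣ 96 := by
    rw [← hn', ← card_TT]
    exact Subgroup.card_subgroup_dvd_card _
  have hn1 : n ≤ 1 := by
    by_contra h
    have h2 : 3 ^ 2 ∣ 96 := (pow_dvd_pow 3 (by omega)).trans hdvd
    norm_num at h2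
  have hle : Nat.card ↥(P ⊔ zpowers u : Subgroup TT) ≤ Nat.card ↥(zpowers u) := by
    rw [hn', ho]
    calc 3 ^ n ≤ 3 ^ 1 := Nat.pow_le_pow_right (by norm_num) hn1
      _ = 3 := by norm_num
  have h4 : zpowers u = P ⊔ zpowers u := Subgroup.eq_of_le_of_card_ge le_sup_right hle
  rw [h4]
  exact le_sup_left

theorem normal_eq_bot {P : Subgroup TT} (hn : P.Normal) (hP : IsPGroup 3 ↥P) : P = ⊥ := by
  have h1 := le_of_three hn hP (u := (1, up)) (by
    rw [Prod.pow_mk, up_pow, one_pow]; rfl) (by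
    intro h
    have h2 := congrArg (fun x : TT => (x.2 : Matrix (Fin 2) (Fin 2) (ZMod 3)) 0 1) h
    revert h2
    decide)
  have h2 := le_of_three hn hP (u := (1, lo)) (by
    rw [Prod.pow_mk, lo_pow, one_pow]; rfl) (by
    intro h
    have h2 := congrArg (fun x : TT => (x.2 : Matrix (Fin 2) (Fin 2) (ZMod 3)) 1 0) h
    revert h2
    decide)
  rw [eq_bot_iff]
  intro x hx
  rw [mem_bot]
  obtain ⟨i, hi⟩ := mem_zpowers_iff.1 (h1 hx)
  obtain ⟨j, hj⟩ := mem_zpowers_iff.1 (h2 hx)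
  have e1 : ∀ i : ℤ, up ^ i = up ^ (i % 3).toNat := by
    intro i
    rw [← zpow_natCast, Int.toNat_of_nonneg (Int.emod_nonneg _ (by norm_num))]
    conv_lhs => rw [← Int.emod_add_mul_ediv i 3, zpow_add, zpow_mul]
    rw [show up ^ (3 : ℤ) = up ^ 3 from rfl, up_pow, one_zpow, mul_one]
  have e2 : ∀ i : ℤ, lo ^ i = lo ^ (i % 3).toNat := by
    intro i
    rw [← zpow_natCast, Int.toNat_of_nonneg (Int.emod_nonneg _ (by norm_num))]
    conv_lhs => rw [← Int.emod_add_mul_ediv i 3, zpow_add, zpow_mul]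
    rw [show lo ^ (3 : ℤ) = lo ^ 3 from rfl, lo_pow, one_zpow, mul_one]
  have hi : ((1 : Multiplicative (ZMod 2)) ^ i, up ^ i) = x := hi
  have hj : ((1 : Multiplicative (ZMod 2)) ^ j, lo ^ j) = x := hj
  rw [one_zpow, e1] at hi
  rw [one_zpow, e2] at hj
  have hi' : (i % 3).toNat < 3 := by omega
  have hj' : (j % 3).toNat < 3 := by omega
  have key : ∀ m < 3, ∀ n < 3, up ^ m = lo ^ n → m = 0 := by
    have key' : ∀ m < 3, ∀ n < 3, ((up ^ m : GeneralLinearGroup (Fin 2) (ZMod 3)) : Matrix (Fin 2) (Fin 2) (ZMod 3)) 0 1 =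
        ((lo ^ n : GeneralLinearGroup (Fin 2) (ZMod 3)) : Matrix (Fin 2) (Fin 2) (ZMod 3)) 0 1 → m = 0 := by decide
    intro m hm n hn h
    exact key' m hm n hn (by rw [h])
  have h5 := congrArg Prod.snd (hi.trans hj.symm)
  have h6 := key _ hi' _ hj' h5
  rw [← hi, h6, pow_zero]
  rfl

/-- **the abstract lemma** -/
theorem main {M : Type*} [Group M] [Finite M] (hM : Nat.card M = 1889568) (φ : M →* TT)
    (hφ : Function.Surjective φ) :
    Nat.card ↥(pCore 3 M) = 3 ^ 9 ∧ Nonempty (M ⧸ pCore 3 M ≃* TT) := by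
  have h3 : Fact (Nat.Prime 3) := ⟨by norm_num⟩
  have hker : Nat.card ↥φ.ker = 3 ^ 9 := by
    have h1 := Subgroup.card_mul_index φ.ker
    rw [Subgroup.index_ker, MonoidHom.range_eq_top.2 hφ, Nat.card_congr Subgroup.topEquiv.toEquiv, card_TT, hM] at h1
    omega
  have heq : pCore 3 M = φ.ker := by
    apply le_antisymm
    · have h1 := normal_eq_bot (P := (pCore 3 M).map φ) ((pCore_normal 3).map _ hφ) ((pCore_isPGroup 3).map _)
      rwa [Subgroup.map_eq_bot_iff] at h1
    · exact le_pCore inferInstance (IsPGroup.of_card hker)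
  refine ⟨by rw [heq]; exact hker, ⟨(QuotientGroup.quotientMulEquivOfEq heq).trans
    (QuotientGroup.quotientKerEquivOfSurjective φ hφ)⟩⟩

end Cfsg.Agent.H838.PCoreAbs
end

-- part: H838/ETwo
section
set_option linter.all false
open scoped Cfsg.Agent.FastGrp

/-!
# The action on an elementary abelian subgroup of order 9 given by two generators (helper838)
-/

set_option autoImplicit false

namespace Cfsg.Agent.H838.ETwo

open Subgroup Cfsg.Agent.H838.Mono

variable {G : Type*} [Group G]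

/-- two independent commuting elements of order 3 -/
structure Pair (e1 e2 : G) : Prop where
  h1 : e1 ^ 3 = 1
  h2 : e2 ^ 3 = 1
  hc : Commute e1 e2
  ind : ∀ i j : ZMod 3, pz e1 i * pz e2 j = 1 → i = 0 ∧ j = 0

/-- the element with coordinates `i`, `j` -/
def V (e1 e2 : G) (i j : ZMod 3) : G := pz e1 i * pz e2 j

section

variable {e1 e2 : G} (P : Pair e1 e2)
include P

theorem V_add (i j i' j' : ZMod 3) : V e1 e2 (i + i') (j + j') = V e1 e2 i j * V e1 e2 i' j' := by
  unfold V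
  rw [pz_add P.h1, pz_add P.h2]
  have h : Commute (pz e1 i') (pz e2 j) := (P.hc.pow_left _).pow_right _
  calc pz e1 i * pz e1 i' * (pz e2 j * pz e2 j') = pz e1 i * (pz e1 i' * pz e2 j) * pz e2 j' := by group
    _ = pz e1 i * (pz e2 j * pz e1 i') * pz e2 j' := by rw [h.eq]
    _ = _ := by group

theorem V_zero : V e1 e2 0 0 = 1 := by
  unfold V; rw [pz_zero, pz_zero, mul_one]

theorem V_neg (i j : ZMod 3) : V e1 e2 (-i) (-j) = (V e1 e2 i j)⁻¹ := by
  apply eq_inv_of_mul_eq_one_left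
  rw [← V_add P, neg_add_cancel, neg_add_cancel, V_zero P]

theorem V_comm (i j i' j' : ZMod 3) : V e1 e2 i j * V e1 e2 i' j' = V e1 e2 i' j' * V e1 e2 i j := by
  rw [← V_add P, ← V_add P, add_comm i, add_comm j]

theorem V_pow (i j : ZMod 3) : V e1 e2 i j ^ 3 = 1 := by
  rw [pow_succ, pow_two, ← V_add P, ← V_add P]
  have h : ∀ k : ZMod 3, k + k + k = 0 := by decide
  rw [h, h, V_zero P]

theorem V_pz (i j k : ZMod 3) : pz (V e1 e2 i j) k = V e1 e2 (i * k) (j * k) := by
  have h : k = 0 ∨ k = 1 ∨ k = 2 := by revert k; decide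
  rcases h with rfl | rfl | rfl
  · rw [pz_zero, mul_zero, mul_zero, V_zero P]
  · rw [pz_one, mul_one, mul_one]
  · rw [pz_two, pow_two, ← V_add P, mul_two, mul_two]

theorem V_inj {i j i' j' : ZMod 3} (h : V e1 e2 i j = V e1 e2 i' j') : i = i' ∧ j = j' := by
  have h1 : V e1 e2 (i - i') (j - j') = 1 := by
    rw [sub_eq_add_neg, sub_eq_add_neg, V_add P, h, V_neg P, mul_inv_cancel]
  have h2 := P.ind _ _ h1
  exact ⟨sub_eq_zero.1 h2.1, sub_eq_zero.1 h2.2⟩

/-- the group of order 9 -/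
def EE : Subgroup G where
  carrier := {x | ∃ i j, V e1 e2 i j = x}
  one_mem' := ⟨0, 0, V_zero P⟩
  mul_mem' := by
    rintro _ _ ⟨i, j, rfl⟩ ⟨i', j', rfl⟩
    exact ⟨i + i', j + j', V_add P i j i' j'⟩
  inv_mem' := by
    rintro _ ⟨i, j, rfl⟩
    exact ⟨-i, -j, V_neg P i j⟩

theorem card_EE : Nat.card ↥(EE P) = 3 ^ 2 := by
  have : Function.Bijective (fun u : ZMod 3 × ZMod 3 => (⟨V e1 e2 u.1 u.2, u.1, u.2, rfl⟩ : ↥(EE P))) := by
    constructor
    · intro u v h
      have h1 := V_inj P (congrArg Subtype.val h)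
      exact Prod.ext h1.1 h1.2
    · rintro ⟨_, i, j, rfl⟩
      exact ⟨(i, j), rfl⟩
  rw [← Nat.card_congr (Equiv.ofBijective _ this), Nat.card_prod, Nat.card_zmod]
  norm_num

theorem V10 : V e1 e2 1 0 = e1 := by unfold V; rw [pz_one, pz_zero, mul_one]
theorem V01 : V e1 e2 0 1 = e2 := by unfold V; rw [pz_one, pz_zero, one_mul]

end

/-- matrices of order 2 -/
abbrev M2 := ZMod 3 × ZMod 3 × ZMod 3 × ZMod 3

/-- `g` acts on the group by a matrix: images of `e1`, `e2` -/
def Act (e1 e2 g : G) (m : M2) : Prop :=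
  g * e1 * g⁻¹ = V e1 e2 m.1 m.2.1 ∧ g * e2 * g⁻¹ = V e1 e2 m.2.2.1 m.2.2.2

/-- product of matrices -/
def mm (m n : M2) : M2 :=
  (m.1 * n.1 + m.2.2.1 * n.2.1, m.2.1 * n.1 + m.2.2.2 * n.2.1, m.1 * n.2.2.1 + m.2.2.1 * n.2.2.2,
    m.2.1 * n.2.2.1 + m.2.2.2 * n.2.2.2)

section

variable {e1 e2 : G} (P : Pair e1 e2)
include P

theorem Act.conj {g : G} {m : M2} (h : Act e1 e2 g m) (i j : ZMod 3) :
    g * V e1 e2 i j * g⁻¹ = V e1 e2 (m.1 * i + m.2.2.1 * j) (m.2.1 * i + m.2.2.2 * j) := by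
  rw [V_add P, ← V_pz P, ← V_pz P, ← h.1, ← h.2, ← pz_conj, ← pz_conj]
  unfold V
  group

theorem Act.mul {g k : G} {m n : M2} (h : Act e1 e2 g m) (h' : Act e1 e2 k n) : Act e1 e2 (g * k) (mm m n) := by
  constructor
  · have e : g * k * e1 * (g * k)⁻¹ = g * (k * e1 * k⁻¹) * g⁻¹ := by group
    rw [e, h'.1, Act.conj P h]
    rfl
  · have e : g * k * e2 * (g * k)⁻¹ = g * (k * e2 * k⁻¹) * g⁻¹ := by group
    rw [e, h'.2, Act.conj P h]
    rfl

theorem Act.one : Act e1 e2 1 (1, 0, 0, 1) := by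
  refine ⟨?_, ?_⟩
  · change 1 * e1 * 1⁻¹ = V e1 e2 1 0
    rw [V10 P]; group
  · change 1 * e2 * 1⁻¹ = V e1 e2 0 1
    rw [V01 P]; group

theorem Act.mem_normalizer {g : G} {m : M2} (h : Act e1 e2 g m) :
    g ∈ normalizer ((EE P : Subgroup G) : Set G) := by
  have hfin : Finite ↥(EE P) := Nat.finite_of_card_ne_zero (by rw [card_EE]; norm_num)
  have h1 : (EE P).map (MulAut.conj g).toMonoidHom = EE P := by
    apply Subgroup.eq_of_le_of_card_ge
    · rintro _ ⟨x, hx, rfl⟩
      obtain ⟨i, j, rfl⟩ := hx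
      exact ⟨_, _, (Act.conj P h i j).symm⟩
    · exact (Nat.card_congr ((EE P).equivMapOfInjective (MulAut.conj g).toMonoidHom
        (MulAut.conj g).injective).toEquiv).le
  rw [mem_normalizer_iff]
  intro x
  constructor
  · intro hx
    rw [← h1]
    exact ⟨x, hx, rfl⟩
  · intro hx
    rw [← h1] at hx
    obtain ⟨y, hy, hy'⟩ := hx
    have h2 : g * y * g⁻¹ = g * x * g⁻¹ := hy'
    rwa [← mul_left_cancel (mul_right_cancel h2)]

theorem Act.list {gs : Fin 3 → G} {ms : Fin 3 → M2} (h : ∀ k, Act e1 e2 (gs k) (ms k)) (l : List (Fin 3)) :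
    Act e1 e2 (l.map gs).prod (l.foldr (fun k m => mm (ms k) m) (1, 0, 0, 1)) := by
  induction l with
  | nil => exact Act.one P
  | cons k l ih =>
    rw [List.map_cons, List.prod_cons, List.foldr_cons]
    exact Act.mul P (h k) ih

end

/-- the matrices of the generators -/
def gm : Fin 3 → M2 := ![(1, 0, 2, 1), (1, 1, 2, 0), (1, 0, 0, 2)]

def tab : List (List (Fin 3)) := [[], [0], [1], [2], [0, 0], [1, 0], [2, 0], [0, 1], [1, 1], [2, 1], [0, 2], [1, 2],
  [1, 0, 0], [1, 1, 0], [2, 1, 0], [1, 2, 0], [0, 0, 1], [1, 0, 1], [2, 0, 1], [0, 1, 1], [1, 1, 1], [2, 1, 1],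
  [0, 2, 1], [1, 2, 1], [1, 0, 2], [0, 1, 2], [1, 1, 2], [2, 1, 2], [2, 1, 0, 0], [0, 1, 1, 0], [1, 1, 1, 0],
  [2, 1, 1, 0], [0, 2, 1, 0], [1, 2, 1, 0], [0, 1, 2, 0], [2, 1, 2, 0], [1, 0, 0, 1], [1, 1, 0, 1], [2, 1, 0, 1],
  [1, 1, 1, 1], [2, 1, 1, 1], [2, 1, 2, 1], [0, 0, 1, 2], [1, 0, 1, 2], [2, 0, 1, 2], [2, 1, 1, 2],
  [0, 2, 1, 0, 0], [2, 0, 1, 2, 0]]

theorem tab_spec : ∀ a b c d : ZMod 3, a * d - c * b ≠ 0 →
    ∃ l ∈ tab, l.foldr (fun k m => mm (gm k) m) (1, 0, 0, 1) = (a, b, c, d) := by decide +kernel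

theorem det_zero : ∀ a b c d : ZMod 3, a * d - c * b = 0 →
    ∃ i j : ZMod 3, (i ≠ 0 ∨ j ≠ 0) ∧ a * i + c * j = 0 ∧ b * i + d * j = 0 := by decide +kernel

section

variable {e1 e2 : G} (P : Pair e1 e2)
include P

/-- **every automorphism is induced by a product of the three generators** -/
theorem surj {gs : Fin 3 → G} (h : ∀ k, Act e1 e2 (gs k) (gm k)) (f : MulAut ↥(EE P)) :
    ∃ w ∈ closure (Set.range gs), ∀ y : ↥(EE P), w * (y : G) * w⁻¹ = (f y : G) := by
  have m1 : e1 ∈ EE P := ⟨1, 0, V10 P⟩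
  have m2 : e2 ∈ EE P := ⟨0, 1, V01 P⟩
  obtain ⟨a, b, hab⟩ := (f ⟨e1, m1⟩).2
  obtain ⟨c, d, hcd⟩ := (f ⟨e2, m2⟩).2
  -- the values of `f`
  have key : ∀ i j : ZMod 3, (f ⟨V e1 e2 i j, i, j, rfl⟩ : G) = V e1 e2 (a * i + c * j) (b * i + d * j) := by
    intro i j
    have e : (⟨V e1 e2 i j, i, j, rfl⟩ : ↥(EE P)) = (⟨e1, m1⟩ : ↥(EE P)) ^ i.val * (⟨e2, m2⟩ : ↥(EE P)) ^ j.val := rfl
    rw [e, map_mul, map_pow, map_pow, Subgroup.coe_mul, SubmonoidClass.coe_pow, SubmonoidClass.coe_pow, ← hab, ← hcd,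
      V_add P, ← V_pz P, ← V_pz P]
    rfl
  have hdet : a * d - c * b ≠ 0 := by
    intro h0
    obtain ⟨i, j, hij, h1, h2⟩ := det_zero a b c d h0
    have h3 := key i j
    rw [h1, h2, V_zero P] at h3
    have h4 : (⟨V e1 e2 i j, i, j, rfl⟩ : ↥(EE P)) = 1 := by
      apply f.injective
      rw [map_one]
      exact Subtype.ext h3
    have h5 := P.ind i j (congrArg Subtype.val h4)
    rcases hij with h | h
    · exact h h5.1
    · exact h h5.2
  obtain ⟨l, -, hl⟩ := tab_spec a b c d hdet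
  refine ⟨(l.map gs).prod, ?_, ?_⟩
  · apply list_prod_mem
    intro x hx
    obtain ⟨k, -, rfl⟩ := List.mem_map.1 hx
    exact subset_closure ⟨k, rfl⟩
  · have hA := Act.list P h l
    rw [hl] at hA
    rintro ⟨_, i, j, rfl⟩
    rw [key i j]
    exact Act.conj P hA i j

/-- the automorphism group is `GL2(3)` -/
theorem exists_GL : Nonempty (MulAut ↥(EE P) ≃* Matrix.GeneralLinearGroup (Fin 2) (ZMod 3)) := by
  have h3 : Fact (Nat.Prime 3) := ⟨by norm_num⟩
  let inst : CommGroup ↥(EE P) := { (inferInstance : Group ↥(EE P)) with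
    mul_comm := by
      rintro ⟨_, i, j, rfl⟩ ⟨_, i', j', rfl⟩
      exact Subtype.ext (V_comm P i j i' j') }
  exact @Lib.ElemAbGL.mulAut_equiv_GL ↥(EE P) inst 3 2 h3 (by
    rintro ⟨_, i, j, rfl⟩
    exact Subtype.ext (V_pow P i j)) (card_EE P)

end

end Cfsg.Agent.H838.ETwo
end
end
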